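import Mathlib
import Cfsg.Agent.Lib.Classical.SpSimple

/-!
The Schrödinger operators of the Heisenberg group over a finite field of odd order, and the intertwiners
attached to the elements of the symplectic group.
-/

namespace CfsgLib.Weil

open Matrix CfsgLib.Classical
open Cfsg (sympForm)

variable {F : Type*} [Field F] [Fintype F] [DecidableEq F] {n : ℕ} (ψ : AddChar F ℂ)

/-- The operator of a point of the symplectic space on functions. -/
noncomputable def wop (w : Fin n ⊕ Fin n → F) : Matrix (Fin n → F) (Fin n → F) ℂ :=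
  Matrix.of fun x y => if y = x + w ∘ Sum.inl then
    ψ ((w ∘ Sum.inr) ⬝ᵥ x + (w ∘ Sum.inl) ⬝ᵥ (w ∘ Sum.inr) / 2) else 0

theorem wop_mulVec (w : Fin n ⊕ Fin n → F) (f : (Fin n → F) → ℂ) (x : Fin n → F) :
    (wop ψ w *ᵥ f) x =
      ψ ((w ∘ Sum.inr) ⬝ᵥ x + (w ∘ Sum.inl) ⬝ᵥ (w ∘ Sum.inr) / 2) * f (x + w ∘ Sum.inl) := by
  simp [wop, mulVec, dotProduct, ite_mul]

theorem mat_ext {ι : Type*} [Fintype ι] [DecidableEq ι] {A B : Matrix ι ι ℂ}
    (h : ∀ f : ι → ℂ, A *ᵥ f = B *ᵥ f) : A = B :=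
  Matrix.toLin'.injective (LinearMap.ext fun f => by simpa using h f)

theorem wop_zero : wop ψ (0 : Fin n ⊕ Fin n → F) = 1 := by
  refine mat_ext fun f => funext fun x => ?_
  have h1 : ((0 : Fin n ⊕ Fin n → F) ∘ Sum.inl) = 0 := rfl
  have h2 : ((0 : Fin n ⊕ Fin n → F) ∘ Sum.inr) = 0 := rfl
  simp [wop_mulVec, h1, h2]

theorem wop_mul (h2 : (2 : F) ≠ 0) (v w : Fin n ⊕ Fin n → F) :
    wop ψ v * wop ψ w = ψ (-(sympForm n F v w) / 2) • wop ψ (v + w) := by
  refine mat_ext fun f => funext fun x => ?_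
  rw [← mulVec_mulVec, wop_mulVec, wop_mulVec, smul_mulVec, Pi.smul_apply, wop_mulVec, smul_eq_mul,
    ← mul_assoc, ← mul_assoc, ← AddChar.map_add_eq_mul, ← AddChar.map_add_eq_mul,
    show (v + w) ∘ Sum.inl = v ∘ Sum.inl + w ∘ Sum.inl from rfl,
    show (v + w) ∘ Sum.inr = v ∘ Sum.inr + w ∘ Sum.inr from rfl, add_assoc x]
  congr 2
  rw [sympForm_eq, Finset.sum_sub_distrib]
  change _ = -((v ∘ Sum.inr) ⬝ᵥ (w ∘ Sum.inl) - (v ∘ Sum.inl) ⬝ᵥ (w ∘ Sum.inr)) / 2 + _
  simp only [dotProduct_add, add_dotProduct, dotProduct_comm (w ∘ Sum.inr) (v ∘ Sum.inl),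
    dotProduct_comm (w ∘ Sum.inl) (v ∘ Sum.inr)]
  field_simp
  ring

theorem charSum (hψ : ψ ≠ 1) (y : Fin n → F) :
    ∑ b : Fin n → F, ψ (b ⬝ᵥ y) = if y = 0 then (Fintype.card F : ℂ) ^ n else 0 := by
  split_ifs with h
  · subst h
    simp
  · obtain ⟨i, hi⟩ := Function.ne_iff.1 h
    obtain ⟨t, ht⟩ := AddChar.ne_one_iff.1 hψ
    let η : AddChar (Fin n → F) ℂ := ψ.compAddMonoidHom
      { toFun := fun b => b ⬝ᵥ y, map_zero' := zero_dotProduct _, map_add' := fun b b' => add_dotProduct b b' y }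
    refine AddChar.sum_eq_zero_of_ne_one (ψ := η) (AddChar.ne_one_iff.2 ⟨Pi.single i (t / y i), ?_⟩)
    simpa [η, div_mul_cancel₀ _ (show y i ≠ 0 from hi)] using ht

theorem trace_wop (hψ : ψ ≠ 1) (w : Fin n ⊕ Fin n → F) :
    (wop ψ w).trace = if w = 0 then (Fintype.card F : ℂ) ^ n else 0 := by
  split_ifs with h
  · subst h
    simp [wop_zero]
  · have hw : ¬ (w ∘ Sum.inl = 0 ∧ w ∘ Sum.inr = 0) := fun e => h (funext fun i => by
      rcases i with i | i
      · exact congrFun e.1 i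
      · exact congrFun e.2 i)
    by_cases ha : w ∘ Sum.inl = 0
    · have hb : w ∘ Sum.inr ≠ 0 := fun e => hw ⟨ha, e⟩
      rw [Matrix.trace]
      simp only [diag, wop, Matrix.of_apply, ha, add_zero, if_true, zero_dotProduct, zero_div]
      have := charSum ψ hψ (w ∘ Sum.inr)
      rw [if_neg hb] at this
      rw [← this]
      exact Finset.sum_congr rfl fun x _ => by rw [dotProduct_comm]
    · refine Finset.sum_eq_zero fun x _ => if_neg fun e => ha ?_
      simpa using e.symm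

/-- A non-zero subspace stable under all the operators is everything. -/
theorem eq_top_of_invariant (h2 : (2 : F) ≠ 0) (hψ : ψ ≠ 1) (U : Submodule ℂ ((Fin n → F) → ℂ))
    (hU : ∀ w, ∀ f ∈ U, wop ψ w *ᵥ f ∈ U) (hne : U ≠ ⊥) : U = ⊤ := by
  obtain ⟨f, hf, hf0⟩ := Submodule.exists_mem_ne_zero_of_ne_bot hne
  obtain ⟨x₀, hx₀⟩ := Function.ne_iff.1 hf0
  have hmem : (∑ b : Fin n → F, ψ (-(b ⬝ᵥ x₀)) • (wop ψ (Sum.elim 0 b) *ᵥ f)) ∈ U :=
    U.sum_mem fun b _ => U.smul_mem _ (hU _ f hf)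
  have hval : (∑ b : Fin n → F, ψ (-(b ⬝ᵥ x₀)) • (wop ψ (Sum.elim 0 b) *ᵥ f)) =
      ((Fintype.card F : ℂ) ^ n * f x₀) • (Pi.single x₀ 1 : (Fin n → F) → ℂ) := by
    funext x
    simp only [Finset.sum_apply, Pi.smul_apply, wop_mulVec, Sum.elim_comp_inl, Sum.elim_comp_inr, zero_dotProduct,
      zero_div, add_zero, smul_eq_mul, ← mul_assoc, ← AddChar.map_add_eq_mul]
    rw [← Finset.sum_mul]
    have := charSum ψ hψ (x - x₀)
    simp only [dotProduct_sub] at this
    simp only [show ∀ b : Fin n → F, -(b ⬝ᵥ x₀) + b ⬝ᵥ x = b ⬝ᵥ x - b ⬝ᵥ x₀ from fun b => by ring, this, sub_eq_zero]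
    by_cases hx : x = x₀
    · simp [hx]
    · simp [hx]
  rw [hval] at hmem
  have hδ : (Pi.single x₀ 1 : (Fin n → F) → ℂ) ∈ U :=
    (U.smul_mem_iff (mul_ne_zero (pow_ne_zero _ (Nat.cast_ne_zero.2 Fintype.card_ne_zero)) hx₀)).1 hmem
  have hall : ∀ y, (Pi.single y 1 : (Fin n → F) → ℂ) ∈ U := by
    intro y
    have h := hU (Sum.elim (x₀ - y) 0) _ hδ
    convert h using 1
    funext x
    rw [wop_mulVec, Sum.elim_comp_inl, Sum.elim_comp_inr]
    simp only [dotProduct_zero, zero_dotProduct, zero_div, add_zero, AddChar.map_zero_eq_one, one_mul,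
      Pi.single_apply]
    by_cases hx : x = y <;> simp [hx]
    intro e
    exact hx (by linear_combination e)
  rw [eq_top_iff]
  intro g _
  rw [← Finset.univ_sum_single g]
  refine U.sum_mem fun y _ => ?_
  have := U.smul_mem (g y) (hall y)
  rwa [← Pi.single_smul', smul_eq_mul, mul_one] at this

/-- Schur: an operator commuting with all the operators is a scalar. -/
theorem exists_scalar (h2 : (2 : F) ≠ 0) (hψ : ψ ≠ 1) (C : Matrix (Fin n → F) (Fin n → F) ℂ)
    (hC : ∀ w, C * wop ψ w = wop ψ w * C) : ∃ c : ℂ, C = c • 1 := by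
  obtain ⟨c, hc⟩ := Module.End.exists_eigenvalue (Matrix.toLin' C)
  have htop := eq_top_of_invariant ψ h2 hψ (Module.End.eigenspace (Matrix.toLin' C) c) (fun w f hf => by
    rw [Module.End.mem_eigenspace_iff, Matrix.toLin'_apply] at hf ⊢
    rw [mulVec_mulVec, hC, ← mulVec_mulVec, hf, mulVec_smul]) hc
  refine ⟨c, mat_ext fun f => ?_⟩
  have : f ∈ Module.End.eigenspace (Matrix.toLin' C) c := htop ▸ Submodule.mem_top
  rw [Module.End.mem_eigenspace_iff, Matrix.toLin'_apply] at this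
  rw [this, smul_mulVec, one_mulVec]

/-- Each element of the symplectic group has an invertible intertwiner. -/
theorem exists_intertwiner (h2 : (2 : F) ≠ 0) (hψ : ψ ≠ 1) (g : symplecticGroup (Fin n) F) :
    ∃ T : Matrix (Fin n → F) (Fin n → F) ℂ, T.det ≠ 0 ∧ ∀ w, T * wop ψ w = wop ψ (g.1 *ᵥ w) * T := by
  set Φ : Matrix (Fin n → F) (Fin n → F) ℂ → Matrix (Fin n → F) (Fin n → F) ℂ :=
    fun X => ∑ w, wop ψ (g.1 *ᵥ w) * X * wop ψ (-w) with hΦ
  have hint : ∀ X v, Φ X * wop ψ v = wop ψ (g.1 *ᵥ v) * Φ X := by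
    intro X v
    simp only [hΦ, Finset.sum_mul, Finset.mul_sum]
    refine Fintype.sum_equiv (Equiv.addRight (-v)) _ _ fun u => ?_
    rw [Equiv.coe_addRight, ← Matrix.mul_assoc, ← Matrix.mul_assoc, Matrix.mul_assoc (_ * X), wop_mul ψ h2,
      Matrix.mul_smul, wop_mul ψ h2, Matrix.smul_mul, Matrix.smul_mul, ← mulVec_add, sp_form g,
      show v + (u + -v) = u by abel, show -(u + -v) = -u + v by abel]
    congr 2
    dsimp only
    rw [sympForm_swap (u + -v) v, sympForm_add_left, show -u = (-1 : F) • u by simp, sympForm_smul_left,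
      show -v = (-1 : F) • v by simp, sympForm_smul_left, sympForm_self]
    ring
  obtain ⟨X, hX⟩ : ∃ X, Φ X ≠ 0 := by
    by_contra hall
    push Not at hall
    have hkey : ∀ y : Fin n → F, ∑ w, wop ψ (g.1 *ᵥ w) 0 0 * wop ψ (-w) y y = 0 := by
      intro y
      have h := congrFun₂ (hall (Matrix.single 0 y 1)) 0 y
      simpa [hΦ, Matrix.sum_apply, Matrix.mul_apply, Matrix.single_apply, ite_and, Finset.sum_mul] using h
    have := Finset.sum_eq_zero (s := Finset.univ) fun y _ => hkey y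
    rw [Finset.sum_comm] at this
    simp only [← Finset.mul_sum] at this
    change ∑ w, wop ψ (g.1 *ᵥ w) 0 0 * (wop ψ (-w)).trace = 0 at this
    simp [trace_wop ψ hψ, wop_zero, mulVec_zero, Fintype.card_ne_zero] at this
  refine ⟨Φ X, fun hdet => ?_, hint X⟩
  obtain ⟨v, hv0, hv⟩ := Matrix.exists_mulVec_eq_zero_iff.2 hdet
  have htop := eq_top_of_invariant ψ h2 hψ (LinearMap.ker (Matrix.toLin' (Φ X))) (fun w f hf => by
    rw [LinearMap.mem_ker, Matrix.toLin'_apply] at hf ⊢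
    rw [mulVec_mulVec, hint, ← mulVec_mulVec, hf, mulVec_zero])
    (fun h => hv0 (by simpa [h] using (show v ∈ LinearMap.ker (Matrix.toLin' (Φ X)) by simp [hv])))
  refine hX (mat_ext fun f => ?_)
  have : f ∈ LinearMap.ker (Matrix.toLin' (Φ X)) := htop ▸ Submodule.mem_top
  simpa using this

end CfsgLib.Weil
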