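import Mathlib
import Cfsg.Agent.Lib.Weil.Schrodinger

/-!
The odd half of the Weil representation of the symplectic group over a finite field of odd order.
-/

namespace CfsgLib.Weil

open Matrix CfsgLib.Classical

variable {F : Type*} [Field F] [Fintype F] [DecidableEq F] {n : ℕ} (ψ : AddChar F ℂ)

/-- The parity operator. -/
def parity (n : ℕ) (F : Type*) [Field F] [DecidableEq F] : Matrix (Fin n → F) (Fin n → F) ℂ :=
  Matrix.of fun x y => if y = -x then 1 else 0

theorem parity_mulVec (f : (Fin n → F) → ℂ) (x : Fin n → F) : (parity n F *ᵥ f) x = f (-x) := by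
  simp [parity, mulVec, dotProduct, ite_mul]

theorem parity_sq : parity n F * parity n F = 1 :=
  mat_ext fun f => funext fun x => by rw [← mulVec_mulVec, parity_mulVec, parity_mulVec, neg_neg, one_mulVec]

theorem parity_wop (w : Fin n ⊕ Fin n → F) : parity n F * wop ψ w = wop ψ (-w) * parity n F := by
  refine mat_ext fun f => funext fun x => ?_
  rw [← mulVec_mulVec, ← mulVec_mulVec, parity_mulVec, wop_mulVec, wop_mulVec, parity_mulVec,
    show (-w) ∘ Sum.inl = -(w ∘ Sum.inl) from rfl, show (-w) ∘ Sum.inr = -(w ∘ Sum.inr) from rfl]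
  simp only [dotProduct_neg, neg_dotProduct, neg_neg, neg_add]

theorem trace_parity (h2 : (2 : F) ≠ 0) : (parity n F).trace = 1 := by
  rw [Matrix.trace, Finset.sum_eq_single 0]
  · simp [parity]
  · intro x _ hx
    refine if_neg fun e => hx (funext fun i => ?_)
    have := congrFun e i
    simp only [Pi.neg_apply] at this
    exact (mul_eq_zero.1 (show (2 : F) * x i = 0 by linear_combination this)).resolve_left h2
  · simp

/-- Invertible operators intertwining the action of `g`. -/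
def IsInter (g : symplecticGroup (Fin n) F) (T : Matrix (Fin n → F) (Fin n → F) ℂ) : Prop :=
  T.det ≠ 0 ∧ ∀ w, T * wop ψ w = wop ψ (g.1 *ᵥ w) * T

theorem inter_unique (h2 : (2 : F) ≠ 0) (hψ : ψ ≠ 1) {g : symplecticGroup (Fin n) F}
    {S T : Matrix (Fin n → F) (Fin n → F) ℂ} (hS : IsInter ψ g S) (hT : IsInter ψ g T) :
    ∃ c : ℂ, c ≠ 0 ∧ S = c • T := by
  have hu : IsUnit T.det := Ne.isUnit hT.1
  obtain ⟨c, hc⟩ := exists_scalar ψ h2 hψ (T⁻¹ * S) (fun w => by
    have e1 : T⁻¹ * wop ψ (g.1 *ᵥ w) = wop ψ w * T⁻¹ := by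
      calc T⁻¹ * wop ψ (g.1 *ᵥ w) = T⁻¹ * (wop ψ (g.1 *ᵥ w) * T) * T⁻¹ := by
            rw [Matrix.mul_assoc, Matrix.mul_assoc, Matrix.mul_nonsing_inv _ hu, Matrix.mul_one]
        _ = _ := by rw [← hT.2, ← Matrix.mul_assoc, Matrix.nonsing_inv_mul _ hu, Matrix.one_mul]
    rw [Matrix.mul_assoc, hS.2, ← Matrix.mul_assoc, e1, Matrix.mul_assoc])
  have hSc : S = c • T := by
    calc S = T * (T⁻¹ * S) := by rw [← Matrix.mul_assoc, Matrix.mul_nonsing_inv _ hu, Matrix.one_mul]
      _ = _ := by rw [hc, Matrix.mul_smul, Matrix.mul_one]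
  refine ⟨c, fun h => hS.1 ?_, hSc⟩
  rw [hSc, h, zero_smul, Matrix.det_zero]

theorem inter_mul {g h : symplecticGroup (Fin n) F} {S T : Matrix (Fin n → F) (Fin n → F) ℂ}
    (hS : IsInter ψ g S) (hT : IsInter ψ h T) : IsInter ψ (g * h) (S * T) := by
  refine ⟨by rw [Matrix.det_mul]; exact mul_ne_zero hS.1 hT.1, fun w => ?_⟩
  rw [Matrix.mul_assoc, hT.2, ← Matrix.mul_assoc, hS.2, mulVec_mulVec, Matrix.mul_assoc]
  rfl

theorem inter_parity (h2 : (2 : F) ≠ 0) (hψ : ψ ≠ 1) {g : symplecticGroup (Fin n) F}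
    {T : Matrix (Fin n → F) (Fin n → F) ℂ} (hT : IsInter ψ g T) : T * parity n F = parity n F * T := by
  have hu : IsUnit T.det := Ne.isUnit hT.1
  have hP : (parity n F).det ≠ 0 := fun h => by
    have := congrArg Matrix.det (parity_sq (F := F) (n := n))
    rw [Matrix.det_mul, h, Matrix.det_one, zero_mul] at this
    exact zero_ne_one this
  have hS : IsInter ψ g (parity n F * (T * parity n F)) := by
    refine ⟨by simp [Matrix.det_mul, hP, hT.1], fun w => ?_⟩
    rw [Matrix.mul_assoc, Matrix.mul_assoc T, parity_wop, ← Matrix.mul_assoc T, hT.2, mulVec_neg,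
      Matrix.mul_assoc, ← Matrix.mul_assoc (parity n F), parity_wop, neg_neg, Matrix.mul_assoc]
  obtain ⟨c, -, hc⟩ := inter_unique ψ h2 hψ hS hT
  have e : T * parity n F = c • (parity n F * T) := by
    rw [← Matrix.mul_smul, ← hc, ← Matrix.mul_assoc, parity_sq, Matrix.one_mul]
  have hc1 : T⁻¹ * (parity n F * T) * 1 = T⁻¹ * parity n F * T := by rw [Matrix.mul_one, Matrix.mul_assoc]
  have ht : (T⁻¹ * parity n F * T).trace = 1 := by
    rw [Matrix.trace_mul_comm, ← Matrix.mul_assoc, Matrix.mul_nonsing_inv _ hu, Matrix.one_mul, trace_parity h2]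
  have hPc : parity n F = c • (T⁻¹ * parity n F * T) := by
    rw [Matrix.mul_assoc, ← Matrix.mul_smul, ← e, ← Matrix.mul_assoc, Matrix.nonsing_inv_mul _ hu, Matrix.one_mul]
  have := congrArg Matrix.trace hPc
  rw [Matrix.trace_smul, ht, trace_parity h2, smul_eq_mul, mul_one] at this
  rw [e, ← this, one_smul]

/-- The odd functions. -/
def oddSub (n : ℕ) (F : Type*) [Field F] : Submodule ℂ ((Fin n → F) → ℂ) where
  carrier := {f | ∀ x, f (-x) = -f x}
  zero_mem' := fun x => by simp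
  add_mem' := fun {f f'} hf hf' x => by simp [hf x, hf' x, add_comm]
  smul_mem' := fun c f hf x => by simp [hf x]

theorem finrank_oddSub (h2 : (2 : F) ≠ 0) :
    2 * Module.finrank ℂ (oddSub n F) + 1 = Fintype.card F ^ n := by
  set p : Module.End ℂ ((Fin n → F) → ℂ) := Matrix.toLin' ((2 : ℂ)⁻¹ • (1 - parity n F)) with hp
  have happly : ∀ f x, p f x = (2 : ℂ)⁻¹ * (f x - f (-x)) := fun f x => by
    simp [hp, smul_mulVec, sub_mulVec, parity_mulVec]
  have hproj : LinearMap.IsProj (oddSub n F) p := by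
    refine ⟨fun f x => ?_, fun f hf => funext fun x => ?_⟩
    · rw [happly, happly, neg_neg]; ring
    · rw [happly, hf x]; ring
  have htr := hproj.trace
  rw [hp, Matrix.trace_toLin'_eq, Matrix.trace_smul, Matrix.trace_sub, trace_parity h2, Matrix.trace_one,
    Fintype.card_fun, Fintype.card_fin, smul_eq_mul] at htr
  have : ((2 * Module.finrank ℂ (oddSub n F) + 1 : ℕ) : ℂ) = ((Fintype.card F ^ n : ℕ) : ℂ) := by
    push_cast
    rw [← htr]
    push_cast
    ring
  exact_mod_cast this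

theorem inter_odd (h2 : (2 : F) ≠ 0) (hψ : ψ ≠ 1) {g : symplecticGroup (Fin n) F}
    {T : Matrix (Fin n → F) (Fin n → F) ℂ} (hT : IsInter ψ g T) :
    ∀ f ∈ oddSub n F, T *ᵥ f ∈ oddSub n F := by
  intro f hf x
  have hPf : parity n F *ᵥ f = -f := funext fun y => by rw [parity_mulVec, hf y]; rfl
  rw [← parity_mulVec (T *ᵥ f) x, mulVec_mulVec, ← inter_parity ψ h2 hψ hT, ← mulVec_mulVec, hPf, mulVec_neg]
  rfl

/-- The restriction to the odd functions. -/
noncomputable def oddRes (T : Matrix (Fin n → F) (Fin n → F) ℂ) : Module.End ℂ (oddSub n F) :=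
  haveI := _root_.Classical.propDecidable (∀ f ∈ oddSub n F, T *ᵥ f ∈ oddSub n F)
  if h : ∀ f ∈ oddSub n F, T *ᵥ f ∈ oddSub n F then
    (Matrix.toLin' T).restrict (fun f hf => by simpa using h f hf)
  else 0

theorem oddRes_val {T : Matrix (Fin n → F) (Fin n → F) ℂ} (h : ∀ f ∈ oddSub n F, T *ᵥ f ∈ oddSub n F)
    (f : oddSub n F) : ((oddRes T f : oddSub n F) : (Fin n → F) → ℂ) = T *ᵥ f.1 := by
  rw [oddRes, dif_pos h]
  rfl

theorem oddRes_det {T : Matrix (Fin n → F) (Fin n → F) ℂ} (h : ∀ f ∈ oddSub n F, T *ᵥ f ∈ oddSub n F)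
    (hT : T.det ≠ 0) : LinearMap.det (oddRes (n := n) T) ≠ 0 := by
  intro h0
  obtain ⟨f, hf, hf0⟩ := Submodule.exists_mem_ne_zero_of_ne_bot (LinearMap.bot_lt_ker_of_det_eq_zero h0).ne'
  refine hT (Matrix.exists_mulVec_eq_zero_iff.1 ⟨f.1, fun e => hf0 (Subtype.ext e), ?_⟩)
  rw [← oddRes_val h, LinearMap.mem_ker.1 hf]
  rfl

/-- The normalising scalar. -/
noncomputable def lam (T : Matrix (Fin n → F) (Fin n → F) ℂ) : ℂ :=
  T.det / LinearMap.det (oddRes (n := n) T) ^ 2

theorem normalised_smul (h2 : (2 : F) ≠ 0) {T : Matrix (Fin n → F) (Fin n → F) ℂ}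
    (h : ∀ f ∈ oddSub n F, T *ᵥ f ∈ oddSub n F) {c : ℂ} (hc : c ≠ 0) :
    (lam (c • T))⁻¹ • oddRes (n := n) (c • T) = (lam T)⁻¹ • oddRes (n := n) T := by
  have hr : oddRes (n := n) (c • T) = c • oddRes (n := n) T := LinearMap.ext fun f => Subtype.ext (by
    rw [oddRes_val (fun f hf => by rw [smul_mulVec]; exact (oddSub n F).smul_mem c (h f hf)), LinearMap.smul_apply,
      Submodule.coe_smul, oddRes_val h, smul_mulVec])
  have hl : lam (c • T) = c * lam T := by
    rw [lam, lam, hr, Matrix.det_smul, LinearMap.det_smul, Fintype.card_fun, Fintype.card_fin,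
      ← finrank_oddSub (F := F) (n := n) h2, mul_pow, ← pow_mul, pow_succ,
      mul_comm (Module.finrank ℂ (oddSub n F)) 2]
    field_simp
  rw [hl, hr, smul_smul, _root_.mul_inv, mul_right_comm, inv_mul_cancel₀ hc, one_mul]

theorem normalised_mul {S T : Matrix (Fin n → F) (Fin n → F) ℂ} (hS : ∀ f ∈ oddSub n F, S *ᵥ f ∈ oddSub n F)
    (hT : ∀ f ∈ oddSub n F, T *ᵥ f ∈ oddSub n F) :
    (lam (S * T))⁻¹ • oddRes (n := n) (S * T) =
      ((lam S)⁻¹ • oddRes (n := n) S) * ((lam T)⁻¹ • oddRes (n := n) T) := by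
  have hr : oddRes (n := n) (S * T) = oddRes (n := n) S * oddRes (n := n) T := LinearMap.ext fun f => Subtype.ext (by
    rw [oddRes_val (fun f hf => by rw [← mulVec_mulVec]; exact hS _ (hT f hf)), Module.End.mul_apply,
      oddRes_val hS, oddRes_val hT, mulVec_mulVec])
  rw [lam, lam, lam, hr, Matrix.det_mul, map_mul, smul_mul_smul_comm, ← _root_.mul_inv, mul_pow, div_mul_div_comm]

/-- The odd half of the Weil representation. -/
noncomputable def weilOdd (h2 : (2 : F) ≠ 0) (hψ : ψ ≠ 1) :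
    symplecticGroup (Fin n) F →* Module.End ℂ (oddSub n F) where
  toFun g := (lam (exists_intertwiner ψ h2 hψ g).choose)⁻¹ • oddRes (n := n) (exists_intertwiner ψ h2 hψ g).choose
  map_one' := by
    obtain ⟨c, hc, e⟩ := inter_unique ψ h2 hψ (exists_intertwiner ψ h2 hψ (1 : symplecticGroup (Fin n) F)).choose_spec
      (T := 1) ⟨by simp, fun w => by simp⟩
    have h1 : ∀ f ∈ oddSub n F, (1 : Matrix (Fin n → F) (Fin n → F) ℂ) *ᵥ f ∈ oddSub n F :=
      fun f hf => by rwa [one_mulVec]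
    rw [e, normalised_smul h2 h1 hc]
    have hr : oddRes (n := n) (1 : Matrix (Fin n → F) (Fin n → F) ℂ) = 1 :=
      LinearMap.ext fun f => Subtype.ext (by rw [oddRes_val h1, one_mulVec]; rfl)
    rw [lam, hr, map_one, Matrix.det_one]
    simp
  map_mul' g h := by
    have hg := (exists_intertwiner ψ h2 hψ g).choose_spec
    have hh := (exists_intertwiner ψ h2 hψ h).choose_spec
    obtain ⟨c, hc, e⟩ := inter_unique ψ h2 hψ (inter_mul ψ hg hh) (exists_intertwiner ψ h2 hψ (g * h)).choose_spec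
    rw [← normalised_smul h2 (inter_odd ψ h2 hψ (exists_intertwiner ψ h2 hψ (g * h)).choose_spec) hc, ← e,
      normalised_mul (inter_odd ψ h2 hψ hg) (inter_odd ψ h2 hψ hh)]

/-- The odd half is not trivial for `n ≥ 2`. -/
theorem weilOdd_ne_one (h2 : (2 : F) ≠ 0) (hψ : ψ ≠ 1) (hn : 2 ≤ n) : weilOdd ψ (n := n) h2 hψ ≠ 1 := by
  intro hone
  set i : Fin n := ⟨0, by omega⟩
  set j : Fin n := ⟨1, by omega⟩
  have hij : j ≠ i := fun e => by simpa [i, j] using congrArg Fin.val e
  set A := elemGL (F := F) hij 1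
  set Ai : Matrix (Fin n) (Fin n) F := ((A⁻¹ : Matrix.GeneralLinearGroup (Fin n) F) : Matrix (Fin n) (Fin n) F)
  have hA1 : Ai * (A : Matrix (Fin n) (Fin n) F) = 1 := by rw [← Units.val_mul, inv_mul_cancel, Units.val_one]
  have hA2 : (A : Matrix (Fin n) (Fin n) F) * Ai = 1 := by rw [← Units.val_mul, mul_inv_cancel, Units.val_one]
  set L : Matrix (Fin n → F) (Fin n → F) ℂ := Matrix.of fun x y => if y = Ai *ᵥ x then 1 else 0 with hL
  have hLf : ∀ f x, (L *ᵥ f) x = f (Ai *ᵥ x) := fun f x => by simp [hL, mulVec, dotProduct, ite_mul]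
  have hLi : IsInter ψ (spD A) L := by
    refine ⟨fun h => ?_, fun w => mat_ext fun f => funext fun x => ?_⟩
    · obtain ⟨v, hv0, hv⟩ := Matrix.exists_mulVec_eq_zero_iff.2 h
      refine hv0 (funext fun x => ?_)
      have := congrFun hv ((A : Matrix (Fin n) (Fin n) F) *ᵥ x)
      rwa [hLf, mulVec_mulVec, hA1, one_mulVec] at this
    · have e1 : ((spD A).1 *ᵥ w) ∘ Sum.inl = (A : Matrix (Fin n) (Fin n) F) *ᵥ (w ∘ Sum.inl) := by
        funext k; simp [spD, fromBlocks_mulVec]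
      have e2 : ((spD A).1 *ᵥ w) ∘ Sum.inr = Aiᵀ *ᵥ (w ∘ Sum.inr) := by
        funext k; simp [spD, Ai, fromBlocks_mulVec, -Matrix.coe_units_inv]
      rw [← mulVec_mulVec, ← mulVec_mulVec, hLf, wop_mulVec, wop_mulVec, hLf, e1, e2, mulVec_transpose,
        mulVec_add, mulVec_mulVec, hA1, one_mulVec, ← dotProduct_mulVec,
        dotProduct_comm ((A : Matrix (Fin n) (Fin n) F) *ᵥ (w ∘ Sum.inl)), ← dotProduct_mulVec, mulVec_mulVec, hA1,
        one_mulVec, dotProduct_comm (w ∘ Sum.inr) (w ∘ Sum.inl)]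
  obtain ⟨c, hc, e⟩ := inter_unique ψ h2 hψ (exists_intertwiner ψ h2 hψ (spD A)).choose_spec hLi
  have h1 : (lam L)⁻¹ • oddRes (n := n) L = 1 := by
    rw [← normalised_smul h2 (inter_odd ψ h2 hψ hLi) hc, ← e]
    exact DFunLike.congr_fun hone (spD A)
  set x₀ : Fin n → F := Pi.single i 1
  set f : (Fin n → F) → ℂ := Pi.single x₀ 1 - Pi.single (-x₀) 1
  have hf : f ∈ oddSub n F := fun x => by
    simp only [f, Pi.sub_apply, Pi.single_apply, neg_eq_iff_eq_neg, neg_neg]
    ring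
  set y : Fin n → F := (A : Matrix (Fin n) (Fin n) F) *ᵥ x₀
  have hAx : y = x₀ + Pi.single j 1 := by
    change (1 + Matrix.single j i 1 : Matrix (Fin n) (Fin n) F) *ᵥ x₀ = _
    rw [add_mulVec, one_mulVec, single_mulVec]
    simp [x₀, Function.update_apply, Pi.single_apply, funext_iff]
  have hxy : y ≠ x₀ := fun e => by
    rw [hAx] at e
    simpa [x₀, hij] using congrFun e j
  have hxy' : y ≠ -x₀ := fun e => by
    rw [hAx] at e
    simpa [x₀, hij] using congrFun e j
  have hx2 : x₀ ≠ -x₀ := fun e => h2 (by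
    have := congrFun e i
    simp [x₀] at this
    linear_combination this)
  have := congrFun (congrArg Subtype.val (LinearMap.congr_fun h1 ⟨f, hf⟩)) y
  rw [LinearMap.smul_apply, Submodule.coe_smul, oddRes_val (inter_odd ψ h2 hψ hLi), Pi.smul_apply, hLf,
    Module.End.one_apply, mulVec_mulVec, hA1, one_mulVec] at this
  simp [f, hxy, hxy', hx2, smul_eq_mul] at this
  exact (div_ne_zero hLi.1 (pow_ne_zero _ (oddRes_det (inter_odd ψ h2 hψ hLi) hLi.1))) this

end CfsgLib.Weil
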