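import Mathlib
import Cfsg.Agent.Lib.Weil.Odd

/-!
The Weil representation of the symplectic group over a finite field of odd order, in the model where the
symmetric matrices act diagonally.
-/

namespace CfsgLib.Weil

open Matrix CfsgLib.Classical
open Cfsg (sympForm)

variable {F : Type*} [Field F] [Fintype F] [DecidableEq F] {n : ℕ} (ψ : AddChar F ℂ)

/-- The operator of `(a, b)`: multiply by `ψ (a · x - a · b / 2)` and translate by `b`. -/
noncomputable def hop (w : Fin n ⊕ Fin n → F) : Matrix (Fin n → F) (Fin n → F) ℂ :=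
  wop ψ (J (Fin n) F *ᵥ w)

omit [Fintype F] [DecidableEq F] in
theorem J_mulVec (w : Fin n ⊕ Fin n → F) :
    J (Fin n) F *ᵥ w = Sum.elim (-(w ∘ Sum.inr)) (w ∘ Sum.inl) := by
  rw [J, fromBlocks_mulVec]
  simp [neg_mulVec]

theorem hop_mulVec (w : Fin n ⊕ Fin n → F) (f : (Fin n → F) → ℂ) (x : Fin n → F) :
    (hop ψ w *ᵥ f) x =
      ψ ((w ∘ Sum.inl) ⬝ᵥ x - (w ∘ Sum.inl) ⬝ᵥ (w ∘ Sum.inr) / 2) * f (x - w ∘ Sum.inr) := by
  rw [hop, wop_mulVec, J_mulVec, Sum.elim_comp_inl, Sum.elim_comp_inr, neg_dotProduct,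
    dotProduct_comm (w ∘ Sum.inr) (w ∘ Sum.inl), neg_div, sub_eq_add_neg x, sub_eq_add_neg]

theorem hop_mul (h2 : (2 : F) ≠ 0) (v w : Fin n ⊕ Fin n → F) :
    hop ψ v * hop ψ w = ψ (-(sympForm n F v w) / 2) • hop ψ (v + w) := by
  have hJ : sympForm n F (J (Fin n) F *ᵥ v) (J (Fin n) F *ᵥ w) = sympForm n F v w :=
    sp_form (SymplecticGroup.symJ (Fin n) F) v w
  simp only [hop]
  rw [wop_mul ψ h2, hJ, mulVec_add]

/-- Invertible operators intertwining the action of `g` on the `hop`. -/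
def IsHInter (g : symplecticGroup (Fin n) F) (T : Matrix (Fin n → F) (Fin n → F) ℂ) : Prop :=
  ∀ w, T * hop ψ w = hop ψ (g.1 *ᵥ w) * T

/-- Conjugation by `J`. -/
def jConj : symplecticGroup (Fin n) F →* symplecticGroup (Fin n) F :=
  (MulAut.conj (SymplecticGroup.symJ (Fin n) F)).toMonoidHom

omit [Fintype F] [DecidableEq F] in
theorem jConj_mulVec (g : symplecticGroup (Fin n) F) (w : Fin n ⊕ Fin n → F) :
    (jConj g).1 *ᵥ (J (Fin n) F *ᵥ w) = J (Fin n) F *ᵥ (g.1 *ᵥ w) := by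
  change (SymplecticGroup.symJ (Fin n) F * g * (SymplecticGroup.symJ (Fin n) F)⁻¹).1 *ᵥ _ = _
  rw [Submonoid.coe_mul, Submonoid.coe_mul, ← mulVec_mulVec, ← mulVec_mulVec]
  congr 2
  exact sp_inv_mulVec (SymplecticGroup.symJ (Fin n) F) w

theorem hInter_of_inter {g : symplecticGroup (Fin n) F} {T : Matrix (Fin n → F) (Fin n → F) ℂ}
    (h : IsInter ψ (jConj g) T) : IsHInter ψ g T := fun w => by
  rw [hop, hop, h.2, jConj_mulVec]

theorem inter_of_hInter {g : symplecticGroup (Fin n) F} {T : Matrix (Fin n → F) (Fin n → F) ℂ}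
    (h : IsHInter ψ g T) (hT : T.det ≠ 0) : IsInter ψ (jConj g) T := by
  refine ⟨hT, fun v => ?_⟩
  obtain ⟨w, rfl⟩ : ∃ w, J (Fin n) F *ᵥ w = v :=
    ⟨(SymplecticGroup.symJ (Fin n) F)⁻¹.1 *ᵥ v, sp_mulVec_inv (SymplecticGroup.symJ (Fin n) F) v⟩
  rw [jConj_mulVec]
  exact h w

theorem lam_smul (h2 : (2 : F) ≠ 0) {T : Matrix (Fin n → F) (Fin n → F) ℂ}
    (h : ∀ f ∈ oddSub n F, T *ᵥ f ∈ oddSub n F) {c : ℂ} (hc : c ≠ 0) : lam (c • T) = c * lam T := by
  have hr : oddRes (n := n) (c • T) = c • oddRes (n := n) T := LinearMap.ext fun f => Subtype.ext (by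
    rw [oddRes_val (fun f hf => by rw [smul_mulVec]; exact (oddSub n F).smul_mem c (h f hf)), LinearMap.smul_apply,
      Submodule.coe_smul, oddRes_val h, smul_mulVec])
  rw [lam, lam, hr, Matrix.det_smul, LinearMap.det_smul, Fintype.card_fun, Fintype.card_fin,
    ← finrank_oddSub (F := F) (n := n) h2, mul_pow, ← pow_mul, pow_succ,
    mul_comm (Module.finrank ℂ (oddSub n F)) 2]
  field_simp

theorem lam_mul {S T : Matrix (Fin n → F) (Fin n → F) ℂ} (hS : ∀ f ∈ oddSub n F, S *ᵥ f ∈ oddSub n F)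
    (hT : ∀ f ∈ oddSub n F, T *ᵥ f ∈ oddSub n F) : lam (S * T) = lam S * lam T := by
  have hr : oddRes (n := n) (S * T) = oddRes (n := n) S * oddRes (n := n) T := LinearMap.ext fun f => Subtype.ext (by
    rw [oddRes_val (fun f hf => by rw [← mulVec_mulVec]; exact hS _ (hT f hf)), Module.End.mul_apply,
      oddRes_val hS, oddRes_val hT, mulVec_mulVec])
  rw [lam, lam, lam, hr, Matrix.det_mul, map_mul, mul_pow, div_mul_div_comm]

theorem lam_ne_zero {T : Matrix (Fin n → F) (Fin n → F) ℂ} (h : ∀ f ∈ oddSub n F, T *ᵥ f ∈ oddSub n F)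
    (hT : T.det ≠ 0) : lam T ≠ 0 := div_ne_zero hT (pow_ne_zero _ (oddRes_det h hT))

theorem lam_one : lam (1 : Matrix (Fin n → F) (Fin n → F) ℂ) = 1 := by
  have hr : oddRes (n := n) (1 : Matrix (Fin n → F) (Fin n → F) ℂ) = 1 := LinearMap.ext fun f =>
    Subtype.ext (by rw [oddRes_val (fun f hf => by rwa [one_mulVec]), one_mulVec]; rfl)
  rw [lam, hr, map_one, Matrix.det_one]
  simp

variable (h2 : (2 : F) ≠ 0) (hψ : ψ ≠ 1)

/-- The normalised intertwiner. -/
noncomputable def weilM : symplecticGroup (Fin n) F →* Matrix (Fin n → F) (Fin n → F) ℂ where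
  toFun g := (lam (exists_intertwiner ψ h2 hψ (jConj g)).choose)⁻¹ • (exists_intertwiner ψ h2 hψ (jConj g)).choose
  map_one' := by
    obtain ⟨c, hc, e⟩ := inter_unique ψ h2 hψ (exists_intertwiner ψ h2 hψ (jConj (1 : symplecticGroup (Fin n) F))).choose_spec
      (T := 1) ⟨by simp, fun w => by simp [map_one]⟩
    rw [e, lam_smul h2 (fun f hf => by rwa [one_mulVec]) hc, lam_one, mul_one, smul_smul, inv_mul_cancel₀ hc, one_smul]
  map_mul' g h := by
    have hg := (exists_intertwiner ψ h2 hψ (jConj g)).choose_spec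
    have hh := (exists_intertwiner ψ h2 hψ (jConj h)).choose_spec
    have hgh := (exists_intertwiner ψ h2 hψ (jConj (g * h))).choose_spec
    obtain ⟨c, hc, e⟩ := inter_unique ψ h2 hψ hgh (T := _ * _) (by rw [map_mul]; exact inter_mul ψ hg hh)
    rw [e, lam_smul h2 (fun f hf => by
        rw [← mulVec_mulVec]; exact inter_odd ψ h2 hψ hg _ (inter_odd ψ h2 hψ hh f hf)) hc,
      lam_mul (inter_odd ψ h2 hψ hg) (inter_odd ψ h2 hψ hh), smul_mul_smul_comm, smul_smul]
    congr 1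
    field_simp

/-- The Weil representation on the functions. -/
noncomputable def weil : Representation ℂ (symplecticGroup (Fin n) F) ((Fin n → F) → ℂ) :=
  (Matrix.toLinAlgEquiv' : Matrix (Fin n → F) (Fin n → F) ℂ ≃ₐ[ℂ] _).toRingEquiv.toMonoidHom.comp (weilM ψ h2 hψ)

theorem weil_apply (g : symplecticGroup (Fin n) F) (f : (Fin n → F) → ℂ) :
    weil ψ h2 hψ g f = weilM ψ h2 hψ g *ᵥ f := by
  simp [weil]

theorem weilM_apply (g : symplecticGroup (Fin n) F) : weilM ψ h2 hψ g =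
    (lam (exists_intertwiner ψ h2 hψ (jConj g)).choose)⁻¹ • (exists_intertwiner ψ h2 hψ (jConj g)).choose := rfl

theorem weilM_inter (g : symplecticGroup (Fin n) F) : IsInter ψ (jConj g) (weilM ψ h2 hψ g) := by
  have hg := (exists_intertwiner ψ h2 hψ (jConj g)).choose_spec
  have hl := lam_ne_zero (inter_odd ψ h2 hψ hg) hg.1
  refine ⟨?_, fun w => ?_⟩
  · rw [weilM_apply, Matrix.det_smul]
    exact mul_ne_zero (pow_ne_zero _ (inv_ne_zero hl)) hg.1
  · rw [weilM_apply, Matrix.smul_mul, hg.2, Matrix.mul_smul]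

theorem lam_weilM (g : symplecticGroup (Fin n) F) : lam (weilM ψ h2 hψ g) = 1 := by
  have hg := (exists_intertwiner ψ h2 hψ (jConj g)).choose_spec
  have hl := lam_ne_zero (inter_odd ψ h2 hψ hg) hg.1
  rw [weilM_apply, lam_smul h2 (inter_odd ψ h2 hψ hg) (inv_ne_zero hl), inv_mul_cancel₀ hl]

/-- Covariance of the Weil representation. -/
theorem weil_hop (g : symplecticGroup (Fin n) F) (w : Fin n ⊕ Fin n → F) (f : (Fin n → F) → ℂ) :
    weil ψ h2 hψ g (hop ψ w *ᵥ f) = hop ψ (g.1 *ᵥ w) *ᵥ weil ψ h2 hψ g f := by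
  rw [weil_apply, weil_apply, mulVec_mulVec, mulVec_mulVec, hInter_of_inter ψ (weilM_inter ψ h2 hψ g) w]

theorem weil_parity (g : symplecticGroup (Fin n) F) (f : (Fin n → F) → ℂ) :
    weil ψ h2 hψ g (parity n F *ᵥ f) = parity n F *ᵥ weil ψ h2 hψ g f := by
  rw [weil_apply, weil_apply, mulVec_mulVec, mulVec_mulVec, inter_parity ψ h2 hψ (weilM_inter ψ h2 hψ g)]

/-- A non-zero operator with the covariance of `g` is a multiple of the Weil operator. -/
theorem exists_weil_eq_smul {g : symplecticGroup (Fin n) F} {L : Module.End ℂ ((Fin n → F) → ℂ)} (hL : L ≠ 0)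
    (h : ∀ w f, L (hop ψ w *ᵥ f) = hop ψ (g.1 *ᵥ w) *ᵥ L f) :
    ∃ c : ℂ, c ≠ 0 ∧ weil ψ h2 hψ g = c • L := by
  set T := LinearMap.toMatrix' L
  have hT : ∀ f, T *ᵥ f = L f := fun f => LinearMap.toMatrix'_mulVec L f
  have hI : IsHInter ψ g T := fun w => mat_ext fun f => by
    rw [← mulVec_mulVec, ← mulVec_mulVec, hT, hT, h]
  set W := weilM ψ h2 hψ g
  have hW := weilM_inter ψ h2 hψ g
  have hu : IsUnit W.det := Ne.isUnit hW.1
  obtain ⟨c, hc⟩ := exists_scalar ψ h2 hψ (W⁻¹ * T) (fun v => by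
    obtain ⟨w, rfl⟩ : ∃ w, J (Fin n) F *ᵥ w = v :=
      ⟨(SymplecticGroup.symJ (Fin n) F)⁻¹.1 *ᵥ v, sp_mulVec_inv (SymplecticGroup.symJ (Fin n) F) v⟩
    have e1 : W⁻¹ * hop ψ (g.1 *ᵥ w) = hop ψ w * W⁻¹ := by
      calc W⁻¹ * hop ψ (g.1 *ᵥ w) = W⁻¹ * (hop ψ (g.1 *ᵥ w) * W) * W⁻¹ := by
            rw [Matrix.mul_assoc, Matrix.mul_assoc, Matrix.mul_nonsing_inv _ hu, Matrix.mul_one]
        _ = _ := by rw [← hInter_of_inter ψ hW w, ← Matrix.mul_assoc, Matrix.nonsing_inv_mul _ hu, Matrix.one_mul]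
    change W⁻¹ * T * hop ψ w = hop ψ w * (W⁻¹ * T)
    rw [Matrix.mul_assoc, hI w, ← Matrix.mul_assoc, e1, Matrix.mul_assoc])
  have hTc : T = c • W := by
    calc T = W * (W⁻¹ * T) := by rw [← Matrix.mul_assoc, Matrix.mul_nonsing_inv _ hu, Matrix.one_mul]
      _ = _ := by rw [hc, Matrix.mul_smul, Matrix.mul_one]
  have hc0 : c ≠ 0 := fun e => hL (LinearMap.ext fun f => by rw [← hT, hTc, e, zero_smul, zero_mulVec]; rfl)
  refine ⟨c⁻¹, inv_ne_zero hc0, LinearMap.ext fun f => ?_⟩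
  rw [LinearMap.smul_apply, ← hT, hTc, smul_mulVec, smul_smul, inv_mul_cancel₀ hc0, one_smul, weil_apply]

omit h2 hψ in
/-- The determinant on the odd functions of an even diagonal operator. -/
theorem lam_diagonal (h2 : (2 : F) ≠ 0) {φ : (Fin n → F) → ℂ} (he : ∀ x, φ (-x) = φ x) (h0 : φ 0 = 1)
    (hne : ∀ x, φ x ≠ 0) : lam (Matrix.diagonal φ) = 1 := by
  classical
  set e := Fintype.equivFin (Fin n → F)
  have hneg : ∀ x : Fin n → F, x ≠ 0 → -x ≠ x := by
    intro x hx h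
    refine hx (funext fun i => ?_)
    have := congrFun h i
    exact (mul_eq_zero.1 (show (2 : F) * x i = 0 by
      simp only [Pi.neg_apply] at this
      linear_combination -this)).resolve_left h2
  set R := Finset.univ.filter fun x : Fin n → F => e x < e (-x) with hR
  have memR : ∀ x, x ∈ R ↔ e x < e (-x) := fun x => by simp [hR]
  have hodd : ∀ f ∈ oddSub n F, Matrix.diagonal φ *ᵥ f ∈ oddSub n F := fun f hf x => by
    rw [mulVec_diagonal, mulVec_diagonal, he, hf x, mul_neg]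
  have hzero : ∀ f ∈ oddSub n F, f 0 = 0 := fun f hf => by
    have := hf 0
    rw [neg_zero] at this
    linear_combination this / 2
  let E : oddSub n F ≃ₗ[ℂ] (R → ℂ) :=
    { toFun := fun f x => f.1 x.1
      map_add' := fun f g => rfl
      map_smul' := fun c f => rfl
      invFun := fun g => ⟨fun x => if h : x ∈ R then g ⟨x, h⟩ else if h' : -x ∈ R then -g ⟨-x, h'⟩ else 0, by
        intro x
        have hx : ¬ (x ∈ R ∧ -x ∈ R) := fun h => by
          rw [memR, memR, neg_neg] at h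
          exact lt_asymm h.1 h.2
        by_cases h1 : x ∈ R
        · have h3 : -x ∉ R := fun h => hx ⟨h1, h⟩
          simp [h1, h3]
        · by_cases h3 : -x ∈ R
          · simp [h1, h3]
          · simp [h1, h3]⟩
      left_inv := fun f => Subtype.ext (funext fun x => by
        change (if h : x ∈ R then f.1 x else if h' : -x ∈ R then -f.1 (-x) else 0) = f.1 x
        split_ifs with h1 h3
        · rfl
        · rw [f.2 x, neg_neg]
        · rw [memR] at h1 h3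
          rw [neg_neg] at h3
          have : x = 0 := by
            by_contra hx
            exact hneg x hx (e.injective (le_antisymm (not_lt.1 h1) (not_lt.1 h3)))
          rw [this, hzero f.1 f.2])
      right_inv := fun g => funext fun x => by simp [x.2] }
  have hconj : E.conj (oddRes (n := n) (Matrix.diagonal φ)) =
      Matrix.toLin' (Matrix.diagonal fun x : R => φ x.1) := by
    refine LinearMap.ext fun g => funext fun x => ?_
    rw [LinearEquiv.conj_apply_apply, Matrix.toLin'_apply, mulVec_diagonal]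
    change (oddRes (n := n) (Matrix.diagonal φ) (E.symm g)).1 x.1 = _
    rw [oddRes_val hodd, mulVec_diagonal]
    congr 1
    change (if h : x.1 ∈ R then g ⟨x.1, h⟩ else _) = g x
    rw [dif_pos x.2]
  have hdet : LinearMap.det (oddRes (n := n) (Matrix.diagonal φ)) = ∏ x ∈ R, φ x := by
    rw [← LinearMap.det_conj (oddRes (n := n) (Matrix.diagonal φ)) E]
    change LinearMap.det (E.conj _) = _
    rw [hconj, LinearMap.det_toLin', Matrix.det_diagonal]
    exact Finset.prod_coe_sort R φ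
  have hsplit : ∏ x, φ x = (∏ x ∈ R, φ x) ^ 2 := by
    rw [← Finset.prod_filter_mul_prod_filter_not Finset.univ (fun x : Fin n → F => e x < e (-x)) φ, ← hR, pow_two]
    congr 1
    rw [← Finset.mul_prod_erase _ _ (show (0 : Fin n → F) ∈ Finset.univ.filter (fun x => ¬ e x < e (-x)) by simp), h0,
      one_mul]
    refine Finset.prod_nbij' (fun x => -x) (fun x => -x) (fun x hx => ?_) (fun x hx => ?_) (fun x _ => neg_neg x)
      (fun x _ => neg_neg x) (fun x _ => (he x).symm)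
    · simp only [Finset.mem_erase, Finset.mem_filter, Finset.mem_univ, true_and, not_lt] at hx
      rw [memR, neg_neg]
      exact lt_of_le_of_ne hx.2 fun h => hneg x hx.1 (e.injective h)
    · rw [memR] at hx
      simp only [Finset.mem_erase, Finset.mem_filter, Finset.mem_univ, true_and, not_lt, neg_neg, ne_eq, neg_eq_zero]
      exact ⟨fun h => lt_irrefl (e x) (by rw [h] at hx ⊢; simpa using hx), hx.le⟩
  rw [lam, hdet, Matrix.det_diagonal, hsplit,
    div_self (pow_ne_zero _ (Finset.prod_ne_zero_iff.2 fun x _ => hne x))]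

/-- The symmetric matrices act diagonally. -/
theorem weil_spS (S : Matrix (Fin n) (Fin n) F) (hS : S.IsSymm) (f : (Fin n → F) → ℂ) (x : Fin n → F) :
    weil ψ h2 hψ (spS S hS) f x = ψ (x ⬝ᵥ (S *ᵥ x) / 2) * f x := by
  set φ : (Fin n → F) → ℂ := fun x => ψ (x ⬝ᵥ (S *ᵥ x) / 2) with hφ
  have hsym : ∀ u v : Fin n → F, u ⬝ᵥ (S *ᵥ v) = (S *ᵥ u) ⬝ᵥ v := fun u v => by
    rw [dotProduct_mulVec, ← mulVec_transpose, hS.eq]
  have hu : ∀ x, φ x ≠ 0 := fun x => by
    have := (AddChar.val_isUnit ψ (x ⬝ᵥ (S *ᵥ x) / 2)).ne_zero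
    exact this
  have hI : ∀ w g, Matrix.toLin' (Matrix.diagonal φ) (hop ψ w *ᵥ g) =
      hop ψ ((spS S hS).1 *ᵥ w) *ᵥ Matrix.toLin' (Matrix.diagonal φ) g := by
    intro w g
    funext y
    have e1 : ((spS S hS).1 *ᵥ w) ∘ Sum.inl = w ∘ Sum.inl + S *ᵥ (w ∘ Sum.inr) := by
      funext i; simp [spS, fromBlocks_mulVec]
    have e2 : ((spS S hS).1 *ᵥ w) ∘ Sum.inr = w ∘ Sum.inr := by
      funext i; simp [spS, fromBlocks_mulVec]
    simp only [Matrix.toLin'_apply, mulVec_diagonal, hop_mulVec, e1, e2, hφ, ← mul_assoc, ← AddChar.map_add_eq_mul]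
    congr 2
    simp only [mulVec_sub, sub_dotProduct, dotProduct_sub, add_dotProduct, hsym]
    rw [dotProduct_comm (S *ᵥ y) (w ∘ Sum.inr), hsym (w ∘ Sum.inr) y]
    field_simp
    ring
  have hne : Matrix.toLin' (Matrix.diagonal φ) ≠ 0 := fun e => hu 0 (by
    have := congrFun (LinearMap.congr_fun e (Pi.single 0 1)) 0
    simpa using this)
  obtain ⟨c, hc, e⟩ := exists_weil_eq_smul ψ h2 hψ hne hI
  have eM : weilM ψ h2 hψ (spS S hS) = c • Matrix.diagonal φ := mat_ext fun g => by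
    rw [← weil_apply, e, LinearMap.smul_apply, Matrix.toLin'_apply, smul_mulVec]
  have hl := lam_weilM ψ h2 hψ (spS S hS)
  rw [eM, lam_smul h2 (fun g hg y => by
      rw [mulVec_diagonal, mulVec_diagonal, hg y, hφ]
      simp [mulVec_neg]) hc,
    lam_diagonal h2 (fun y => by simp [hφ, mulVec_neg]) (by simp [hφ]) hu, mul_one] at hl
  rw [e, hl, one_smul, Matrix.toLin'_apply, mulVec_diagonal]

/-- The linear group acts by substitution, up to a scalar. -/
theorem weil_spD (A : GL (Fin n) F) : ∃ c : ℂ, c ≠ 0 ∧ ∀ f : (Fin n → F) → ℂ,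
    weil ψ h2 hψ (spD A) f = c • fun x => f ((A : Matrix (Fin n) (Fin n) F)ᵀ *ᵥ x) := by
  set L := LinearMap.funLeft ℂ ℂ fun x => (A : Matrix (Fin n) (Fin n) F)ᵀ *ᵥ x
  have hA : (A : Matrix (Fin n) (Fin n) F)ᵀ * ((A⁻¹ : GL (Fin n) F) : Matrix (Fin n) (Fin n) F)ᵀ = 1 := by
    rw [← transpose_mul, ← Units.val_mul, inv_mul_cancel, Units.val_one, transpose_one]
  have hne : L ≠ 0 := fun e => by
    simpa [L, LinearMap.funLeft] using congrFun (LinearMap.congr_fun e (Pi.single 0 1)) 0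
  have hI : ∀ w g, L (hop ψ w *ᵥ g) = hop ψ ((spD A).1 *ᵥ w) *ᵥ L g := by
    intro w g
    funext y
    have e1 : ((spD A).1 *ᵥ w) ∘ Sum.inl = (A : Matrix (Fin n) (Fin n) F) *ᵥ (w ∘ Sum.inl) := by
      funext i; simp [spD, fromBlocks_mulVec]
    have e2 : ((spD A).1 *ᵥ w) ∘ Sum.inr =
        ((A⁻¹ : GL (Fin n) F) : Matrix (Fin n) (Fin n) F)ᵀ *ᵥ (w ∘ Sum.inr) := by
      funext i; simp [spD, fromBlocks_mulVec, -Matrix.coe_units_inv]
    have e3 : ((A : Matrix (Fin n) (Fin n) F) *ᵥ (w ∘ Sum.inl)) ⬝ᵥ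
        (((A⁻¹ : GL (Fin n) F) : Matrix (Fin n) (Fin n) F)ᵀ *ᵥ (w ∘ Sum.inr)) =
          (w ∘ Sum.inl) ⬝ᵥ (w ∘ Sum.inr) := by
      rw [dotProduct_comm, dotProduct_mulVec, ← mulVec_transpose, mulVec_mulVec, hA, one_mulVec, dotProduct_comm]
    simp only [L, LinearMap.funLeft_apply, hop_mulVec, e1, e2, e3, mulVec_sub, mulVec_mulVec, hA, one_mulVec]
    rw [dotProduct_comm ((A : Matrix (Fin n) (Fin n) F) *ᵥ (w ∘ Sum.inl)) y, dotProduct_mulVec y,
      ← mulVec_transpose, dotProduct_comm]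
  obtain ⟨c, hc, e⟩ := exists_weil_eq_smul ψ h2 hψ hne hI
  exact ⟨c, hc, fun f => by rw [e]; rfl⟩

/-- `J` acts by the Fourier transform, up to a scalar. -/
theorem weil_symJ : ∃ c : ℂ, c ≠ 0 ∧ ∀ f : (Fin n → F) → ℂ,
    weil ψ h2 hψ (SymplecticGroup.symJ (Fin n) F) f = c • fun x => ∑ y, ψ (-(x ⬝ᵥ y)) * f y := by
  set L := Matrix.toLin' (Matrix.of fun x y : Fin n → F => ψ (-(x ⬝ᵥ y))) with hLdef
  have hLf : ∀ f x, L f x = ∑ y, ψ (-(x ⬝ᵥ y)) * f y := fun f x => by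
    simp [hLdef, mulVec, dotProduct]
  have hne : L ≠ 0 := fun e => by
    simpa [hLf, Pi.single_apply] using congrFun (LinearMap.congr_fun e (Pi.single 0 1)) 0
  have hI : ∀ w g, L (hop ψ w *ᵥ g) = hop ψ ((SymplecticGroup.symJ (Fin n) F).1 *ᵥ w) *ᵥ L g := by
    intro w g
    funext x
    change L (hop ψ w *ᵥ g) x = (hop ψ (J (Fin n) F *ᵥ w) *ᵥ L g) x
    rw [hLf, hop_mulVec, J_mulVec, Sum.elim_comp_inl, Sum.elim_comp_inr, hLf, Finset.mul_sum]
    refine Fintype.sum_equiv (Equiv.subRight (w ∘ Sum.inr)) _ _ fun y => ?_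
    rw [Equiv.subRight_apply, hop_mulVec, ← mul_assoc, ← mul_assoc, ← AddChar.map_add_eq_mul, ← AddChar.map_add_eq_mul]
    congr 2
    simp only [neg_dotProduct, sub_dotProduct, dotProduct_sub]
    rw [dotProduct_comm (w ∘ Sum.inr) x, dotProduct_comm (w ∘ Sum.inr) (w ∘ Sum.inl)]
    field_simp
    ring
  obtain ⟨c, hc, e⟩ := exists_weil_eq_smul ψ h2 hψ hne hI
  refine ⟨c, hc, fun f => funext fun x => ?_⟩
  rw [e, LinearMap.smul_apply, Pi.smul_apply, hLf, Pi.smul_apply]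

end CfsgLib.Weil
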