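import Mathlib
import Cfsg.Agent.Lib.Weil.Full
import Cfsg.Agent.Lib.KnownSimple.SpConstruct
import Cfsg.Agent.Lib.MinDegree.Sp

/-!
The Weil representation on block sums and on the Heisenberg subgroup fixing an isotropic vector.
-/

namespace CfsgLib.Weil

open Matrix CfsgLib.Classical CfsgLib.KnownSimple CfsgLib.MinDegree
open Cfsg (sympForm)

variable {F : Type*} [Field F] {k m : ℕ}

/-- Gluing coordinates of the first pair and of the others. -/
def join (u : Fin 1 ⊕ Fin 1 → F) (v : Fin k ⊕ Fin k → F) : Fin (k + 1) ⊕ Fin (k + 1) → F :=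
  Sum.elim (Fin.cons (u (Sum.inl 0)) (v ∘ Sum.inl)) (Fin.cons (u (Sum.inr 0)) (v ∘ Sum.inr))

theorem join_comp (h : 1 + k = k + 1) (u : Fin 1 ⊕ Fin 1 → F) (v : Fin k ⊕ Fin k → F) :
    join u v ∘ spSumEquiv h = Sum.elim u v := by
  funext z
  rcases z with (i | i) | (i | i)
  · obtain rfl : i = 0 := Subsingleton.elim _ _
    change join u v (Sum.inl (finCongr h (Fin.castAdd k 0))) = u (Sum.inl 0)
    rw [show finCongr h (Fin.castAdd k (0 : Fin 1)) = 0 from Fin.ext rfl]
    rfl
  · obtain rfl : i = 0 := Subsingleton.elim _ _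
    change join u v (Sum.inr (finCongr h (Fin.castAdd k 0))) = u (Sum.inr 0)
    rw [show finCongr h (Fin.castAdd k (0 : Fin 1)) = 0 from Fin.ext rfl]
    rfl
  · change join u v (Sum.inl (finCongr h (Fin.natAdd 1 i))) = v (Sum.inl i)
    rw [show finCongr h (Fin.natAdd 1 i) = i.succ from Fin.ext (by simp [Nat.add_comm])]
    rfl
  · change join u v (Sum.inr (finCongr h (Fin.natAdd 1 i))) = v (Sum.inr i)
    rw [show finCongr h (Fin.natAdd 1 i) = i.succ from Fin.ext (by simp [Nat.add_comm])]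
    rfl

theorem spSum_join (h : 1 + k = k + 1) (g : symplecticGroup (Fin 1) F) (g' : symplecticGroup (Fin k) F)
    (u : Fin 1 ⊕ Fin 1 → F) (v : Fin k ⊕ Fin k → F) :
    (spSum h (g, g')).1 *ᵥ join u v = join (g.1 *ᵥ u) (g'.1 *ᵥ v) := by
  refine (Function.Surjective.injective_comp_right (spSumEquiv h).surjective) ?_
  change ((Matrix.reindexAlgEquiv F F (spSumEquiv h) (fromBlocks g.1 0 0 g'.1)) *ᵥ join u v) ∘ spSumEquiv h =
    join _ _ ∘ spSumEquiv h
  rw [Matrix.coe_reindexAlgEquiv, Matrix.reindex_apply, Matrix.submatrix_mulVec_equiv, Equiv.symm_symm, join_comp,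
    join_comp, Matrix.fromBlocks_mulVec]
  funext x
  simp

theorem exists_join (w : Fin (k + 1) ⊕ Fin (k + 1) → F) : ∃ u v, w = join u v := by
  refine ⟨Sum.elim (fun _ => w (Sum.inl 0)) (fun _ => w (Sum.inr 0)),
    Sum.elim (fun i => w (Sum.inl i.succ)) (fun i => w (Sum.inr i.succ)), funext fun z => ?_⟩
  rcases z with i | i <;> cases i using Fin.cases <;> rfl

theorem join_add (u u' : Fin 1 ⊕ Fin 1 → F) (v v' : Fin k ⊕ Fin k → F) :
    join u v + join u' v' = join (u + u') (v + v') := by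
  funext z
  rcases z with i | i <;> cases i using Fin.cases <;> rfl

theorem smul_join (a : F) (u : Fin 1 ⊕ Fin 1 → F) (v : Fin k ⊕ Fin k → F) :
    a • join u v = join (a • u) (a • v) := by
  funext z
  rcases z with i | i <;> cases i using Fin.cases <;> rfl

theorem sympForm_join (u u' : Fin 1 ⊕ Fin 1 → F) (v v' : Fin k ⊕ Fin k → F) :
    sympForm (k + 1) F (join u v) (join u' v') = sympForm 1 F u u' + sympForm k F v v' := by
  rw [sympForm_eq, sympForm_eq, sympForm_eq, Fin.sum_univ_succ, Fin.sum_univ_one]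
  rfl

/-- The first basis vector of a plane. -/
def b0 : Fin 1 ⊕ Fin 1 → F := Sum.elim (fun _ => 1) (fun _ => 0)

theorem dot_single (i : Fin m) (c : F) (y : Fin m → F) :
    y ⬝ᵥ (Matrix.single i i c *ᵥ y) = c * (y i * y i) := by
  simp only [Matrix.single_mulVec]
  simp [dotProduct, Function.update_apply, Finset.sum_ite_eq', mul_comm, mul_left_comm]

theorem one_add_eq (k : ℕ) : 1 + k = k + 1 := Nat.add_comm 1 k

/-- The first factor. -/
def emA (k : ℕ) : symplecticGroup (Fin 1) F →* symplecticGroup (Fin (k + 1)) F :=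
  (spSum (one_add_eq k)).comp (MonoidHom.inl _ _)

/-- The second factor. -/
def emB (k : ℕ) : symplecticGroup (Fin k) F →* symplecticGroup (Fin (k + 1)) F :=
  (spSum (one_add_eq k)).comp (MonoidHom.inr _ _)

theorem emA_join (g : symplecticGroup (Fin 1) F) (u : Fin 1 ⊕ Fin 1 → F) (v : Fin k ⊕ Fin k → F) :
    (emA k g).1 *ᵥ join u v = join (g.1 *ᵥ u) v := by
  change (spSum (one_add_eq k) (g, 1)).1 *ᵥ _ = _
  rw [spSum_join, Submonoid.coe_one, one_mulVec]

theorem emB_join (g : symplecticGroup (Fin k) F) (u : Fin 1 ⊕ Fin 1 → F) (v : Fin k ⊕ Fin k → F) :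
    (emB k g).1 *ᵥ join u v = join u (g.1 *ᵥ v) := by
  change (spSum (one_add_eq k) (1, g)).1 *ᵥ _ = _
  rw [spSum_join, Submonoid.coe_one, one_mulVec]

theorem emA_emB_comm (g : symplecticGroup (Fin 1) F) (g' : symplecticGroup (Fin k) F) :
    emA k g * emB k g' = emB k g' * emA k g := by
  simp only [emA, emB, MonoidHom.comp_apply, ← map_mul, MonoidHom.inl_apply, MonoidHom.inr_apply, Prod.mk_mul_mk,
    one_mul, mul_one]

theorem spT_join_left (u : Fin 1 ⊕ Fin 1 → F) (c : F) : emA k (spT u c) = spT (join u 0) c := by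
  refine sp_ext fun w => ?_
  obtain ⟨u', v', rfl⟩ := exists_join w
  rw [emA_join, spT_apply, spT_apply, sympForm_join, sympForm_zero_right, add_zero, smul_join, join_add, smul_zero,
    add_zero]

theorem spT_join_right (v : Fin k ⊕ Fin k → F) (c : F) : emB k (spT v c) = spT (join 0 v) c := by
  refine sp_ext fun w => ?_
  obtain ⟨u', v', rfl⟩ := exists_join w
  rw [emB_join, spT_apply, spT_apply, sympForm_join, sympForm_zero_right, zero_add, smul_join, join_add, smul_zero,
    add_zero]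

/-- A transvection along a vector of the first Lagrangian. -/
theorem spT_inl_eq (v : Fin m → F) (c : F) :
    spT (Sum.elim v 0) c = spSHom (Multiplicative.ofAdd (MinDegree.sq v c)) := by
  refine sp_ext fun x => ?_
  change _ = (fromBlocks 1 (MinDegree.sq v c).1 0 1) *ᵥ x
  have hs : sympForm m F x (Sum.elim v 0) = (x ∘ Sum.inr) ⬝ᵥ v := by
    simp [sympForm_eq, dotProduct, Function.comp]
  rw [spT_apply, hs, fromBlocks_mulVec]
  funext i
  rcases i with i | i
  · simp [MinDegree.sq, smul_mulVec, vecMulVec_mulVec, dotProduct_comm v (x ∘ Sum.inr)]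
    ring
  · simp

/-- The element fixing `e`, acting on the quotient trivially, given by `w` orthogonal to `e` and a scalar. -/
def eichM (e w : Fin m ⊕ Fin m → F) (c : F) : Matrix (Fin m ⊕ Fin m) (Fin m ⊕ Fin m) F :=
  1 + vecMulVec w (J (Fin m) F *ᵥ e) + vecMulVec e (J (Fin m) F *ᵥ w) + c • vecMulVec e (J (Fin m) F *ᵥ e)

theorem eichM_mulVec (e w : Fin m ⊕ Fin m → F) (c : F) (x : Fin m ⊕ Fin m → F) :
    eichM e w c *ᵥ x =
      x + sympForm m F x e • w + sympForm m F x w • e + (c * sympForm m F x e) • e := by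
  simp only [eichM, add_mulVec, one_mulVec, smul_mulVec, vecMulVec_mulVec, op_smul_eq_smul, smul_smul, sympForm,
    dotProduct_comm x]

theorem eichM_mem {e w : Fin m ⊕ Fin m → F} (h : sympForm m F e w = 0) (c : F) :
    eichM e w c ∈ symplecticGroup (Fin m) F := by
  rw [mem_sp_iff]
  intro x y
  have h' : sympForm m F w e = 0 := by rw [sympForm_swap, h, neg_zero]
  simp only [eichM_mulVec, sympForm_add_left, sympForm_add_right, sympForm_smul_left, sympForm_smul_right,
    sympForm_self, h, h']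
  rw [sympForm_swap y e, sympForm_swap y w]
  ring

variable (k) in
/-- The first basis vector. -/
def e0 : Fin (k + 1) ⊕ Fin (k + 1) → F := join b0 0

theorem sympForm_e0_join (v : Fin k ⊕ Fin k → F) : sympForm (k + 1) F (e0 k) (join 0 v) = 0 := by
  rw [e0, sympForm_join, sympForm_zero_right, sympForm_zero_left, add_zero]

/-- The Heisenberg group fixing the first basis vector. -/
def qF (w : Fin k ⊕ Fin k → F) (c : F) : symplecticGroup (Fin (k + 1)) F :=
  ⟨eichM (e0 k) (join 0 w) c, eichM_mem (sympForm_e0_join w) c⟩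

theorem qF_apply (w : Fin k ⊕ Fin k → F) (c : F) (x : Fin (k + 1) ⊕ Fin (k + 1) → F) :
    (qF w c).1 *ᵥ x = x + sympForm (k + 1) F x (e0 k) • join 0 w + sympForm (k + 1) F x (join 0 w) • e0 k +
      (c * sympForm (k + 1) F x (e0 k)) • e0 k := eichM_mulVec _ _ _ x

theorem qF_mul (w w' : Fin k ⊕ Fin k → F) (c c' : F) :
    qF w c * qF w' c' = qF (w + w') (c + c' + sympForm k F w' w) := by
  refine sp_ext fun x => ?_
  have h1 : ∀ v : Fin k ⊕ Fin k → F, sympForm (k + 1) F (e0 k) (join 0 v) = 0 := sympForm_e0_join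
  have h2 : ∀ v : Fin k ⊕ Fin k → F, sympForm (k + 1) F (join 0 v) (e0 k) = 0 := fun v => by
    rw [sympForm_swap, h1, neg_zero]
  have h3 : sympForm (k + 1) F (join 0 w') (join 0 w) = sympForm k F w' w := by
    rw [sympForm_join, sympForm_zero_left, zero_add]
  have h4 : join (0 : Fin 1 ⊕ Fin 1 → F) w + join 0 w' = join 0 (w + w') := by rw [join_add, add_zero]
  rw [Submonoid.coe_mul, ← mulVec_mulVec, qF_apply, qF_apply, qF_apply, ← h4]
  simp only [sympForm_add_left, sympForm_smul_left, sympForm_self, h1, h2, h3, sympForm_add_right]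
  funext i
  simp only [Pi.add_apply, Pi.smul_apply, smul_eq_mul]
  ring

theorem qF_zero : qF (0 : Fin k ⊕ Fin k → F) 0 = 1 := by
  refine sp_ext fun x => ?_
  rw [qF_apply, show join (0 : Fin 1 ⊕ Fin 1 → F) (0 : Fin k ⊕ Fin k → F) = 0 by
    funext z; rcases z with i | i <;> cases i using Fin.cases <;> rfl]
  simp

theorem qF_scalar (c : F) : qF (0 : Fin k ⊕ Fin k → F) c = spT (e0 k) c := by
  refine sp_ext fun x => ?_
  rw [qF_apply, spT_apply, show join (0 : Fin 1 ⊕ Fin 1 → F) (0 : Fin k ⊕ Fin k → F) = 0 by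
    funext z; rcases z with i | i <;> cases i using Fin.cases <;> rfl]
  simp

theorem qF_inv (w : Fin k ⊕ Fin k → F) (c : F) : (qF w c)⁻¹ = qF (-w) (-c) := by
  refine inv_eq_of_mul_eq_one_right ?_
  rw [qF_mul, add_neg_cancel, add_neg_cancel, show -w = (-1 : F) • w by simp, sympForm_smul_left, sympForm_self,
    mul_zero, add_zero, qF_zero]

theorem qF_conj_emB (g : symplecticGroup (Fin k) F) (w : Fin k ⊕ Fin k → F) (c : F) :
    emB k g * qF w c * (emB k g)⁻¹ = qF (g.1 *ᵥ w) c := by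
  rw [mul_inv_eq_iff_eq_mul]
  refine sp_ext fun x => ?_
  rw [Submonoid.coe_mul, Submonoid.coe_mul, ← mulVec_mulVec, ← mulVec_mulVec, qF_apply, qF_apply]
  simp only [mulVec_add, mulVec_smul]
  have he : (emB k g).1 *ᵥ e0 k = e0 k := by rw [e0, emB_join, mulVec_zero]
  have hw : (emB k g).1 *ᵥ join 0 w = join 0 (g.1 *ᵥ w) := emB_join g 0 w
  have h1 := sp_form (emB k g) x (e0 k)
  have h2 := sp_form (emB k g) x (join 0 w)
  rw [he] at h1
  rw [hw] at h2
  rw [he, hw, h1, h2]

/-- The Heisenberg elements moved by an element of the first factor scaling the first basis vector. -/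
theorem qF_conj_emA {g : symplecticGroup (Fin 1) F} {t : F} (hg : g.1 *ᵥ (t • (b0 : Fin 1 ⊕ Fin 1 → F)) = b0)
    (w : Fin k ⊕ Fin k → F) (c : F) :
    qF w c * emA k g = emA k g * qF (t • w) (t * t * c) := by
  refine sp_ext fun x => ?_
  rw [Submonoid.coe_mul, Submonoid.coe_mul, ← mulVec_mulVec, ← mulVec_mulVec, qF_apply, qF_apply]
  simp only [mulVec_add, mulVec_smul]
  have hw : (emA k g).1 *ᵥ join 0 (t • w) = t • join 0 w := by
    rw [emA_join, mulVec_zero, smul_join, smul_zero]
  have he : t • (emA k g).1 *ᵥ e0 k = e0 k := by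
    rw [← mulVec_smul, e0, smul_join, smul_zero, emA_join, hg]
  have h1 : sympForm (k + 1) F x (join 0 (t • w)) = t * sympForm (k + 1) F ((emA k g).1 *ᵥ x) (join 0 w) := by
    rw [← sp_form (emA k g), hw, sympForm_smul_right]
  have h2 : sympForm (k + 1) F ((emA k g).1 *ᵥ x) (e0 k) = t * sympForm (k + 1) F x (e0 k) := by
    conv_lhs => rw [← he, sympForm_smul_right, sp_form]
  rw [hw, h1, h2]
  funext i
  have hi := congrFun he i
  simp only [Pi.smul_apply, smul_eq_mul] at hi
  simp only [Pi.add_apply, Pi.smul_apply, smul_eq_mul]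
  rw [← hi]
  ring

/-- Heisenberg elements with first coordinates only are unipotent of the Siegel radical. -/
theorem qF_inl (a : Fin k → F) (c : F) : qF (Sum.elim a (0 : Fin k → F)) c = spSHom (Multiplicative.ofAdd
    (MinDegree.sq (Fin.cons 1 0) c + sy (Fin.cons 1 0) (Fin.cons 0 a) 1)) := by
  refine sp_ext fun x => ?_
  change _ = (fromBlocks 1 (MinDegree.sq (Fin.cons 1 0) c + sy (Fin.cons 1 0) (Fin.cons 0 a) 1 : symA (k + 1) F).1 0 1) *ᵥ x
  obtain ⟨u, v, rfl⟩ := exists_join x
  have h1 : sympForm 1 F u b0 = u (Sum.inr 0) := by simp [sympForm_eq, b0]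
  have h2 : sympForm k F v (Sum.elim a 0) = (v ∘ Sum.inr) ⬝ᵥ a := by simp [sympForm_eq, dotProduct, Function.comp]
  rw [qF_apply, e0, sympForm_join, sympForm_join, h1, h2, sympForm_zero_right, sympForm_zero_right, zero_add,
    add_zero, fromBlocks_mulVec]
  funext z
  rcases z with i | i <;> cases i using Fin.cases <;>
    simp [join, b0, MinDegree.sq, sy, smul_mulVec, add_mulVec, vecMulVec_mulVec, dotProduct, Fin.sum_univ_succ, mul_comm] <;> ring

/-! ### The slices of the Weil representation -/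

variable [Fintype F] [DecidableEq F] (ψ : AddChar F ℂ)

/-- A column of a function. -/
def col (x : Fin k → F) : ((Fin (k + 1) → F) → ℂ) →ₗ[ℂ] ((Fin 1 → F) → ℂ) :=
  LinearMap.funLeft ℂ ℂ fun t => Fin.cons (t 0) x

/-- A row of a function. -/
def row (t : F) : ((Fin (k + 1) → F) → ℂ) →ₗ[ℂ] ((Fin k → F) → ℂ) :=
  LinearMap.funLeft ℂ ℂ fun x => Fin.cons t x

theorem hop_join (u : Fin 1 ⊕ Fin 1 → F) (v : Fin k ⊕ Fin k → F) (f : (Fin (k + 1) → F) → ℂ) (t : F) (x : Fin k → F) :
    (hop ψ (join u v) *ᵥ f) (Fin.cons t x) =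
      ψ (u (Sum.inl 0) * t - u (Sum.inl 0) * u (Sum.inr 0) / 2) *
        ψ ((v ∘ Sum.inl) ⬝ᵥ x - (v ∘ Sum.inl) ⬝ᵥ (v ∘ Sum.inr) / 2) *
          f (Fin.cons (t - u (Sum.inr 0)) (x - v ∘ Sum.inr)) := by
  rw [hop_mulVec, ← AddChar.map_add_eq_mul]
  have e1 : ∀ (a b : F) (c d : Fin k → F), (Fin.cons a c : Fin (k + 1) → F) ⬝ᵥ Fin.cons b d = a * b + c ⬝ᵥ d :=
    fun a b c d => by simp [dotProduct, Fin.sum_univ_succ]
  have e2 : (Fin.cons t x : Fin (k + 1) → F) - Fin.cons (u (Sum.inr 0)) (v ∘ Sum.inr) =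
      Fin.cons (t - u (Sum.inr 0)) (x - v ∘ Sum.inr) := by
    funext i; cases i using Fin.cases <;> simp
  simp only [join, Sum.elim_comp_inl, Sum.elim_comp_inr, e1, e2]
  congr 2
  ring

theorem col_hop (u : Fin 1 ⊕ Fin 1 → F) (v : Fin k ⊕ Fin k → F) (f : (Fin (k + 1) → F) → ℂ) (x : Fin k → F) :
    col x (hop ψ (join u v) *ᵥ f) = ψ ((v ∘ Sum.inl) ⬝ᵥ x - (v ∘ Sum.inl) ⬝ᵥ (v ∘ Sum.inr) / 2) •
      (hop ψ u *ᵥ col (x - v ∘ Sum.inr) f) := by
  funext t
  change (hop ψ (join u v) *ᵥ f) (Fin.cons (t 0) x) = _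
  rw [hop_join]
  simp only [col, LinearMap.funLeft_apply, Pi.smul_apply, smul_eq_mul, hop_mulVec,
    dotProduct, Fin.sum_univ_one, Function.comp_apply, Pi.sub_apply]
  ring

theorem row_hop (u : Fin 1 ⊕ Fin 1 → F) (v : Fin k ⊕ Fin k → F) (f : (Fin (k + 1) → F) → ℂ) (t : F) :
    row t (hop ψ (join u v) *ᵥ f) = ψ (u (Sum.inl 0) * t - u (Sum.inl 0) * u (Sum.inr 0) / 2) •
      (hop ψ v *ᵥ row (t - u (Sum.inr 0)) f) := by
  funext x
  change (hop ψ (join u v) *ᵥ f) (Fin.cons t x) = _
  rw [hop_join]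
  simp only [row, LinearMap.funLeft_apply, Pi.smul_apply, smul_eq_mul, hop_mulVec]
  ring

omit [Fintype F] [DecidableEq F] in
theorem cons_const (y : Fin (k + 1) → F) : (Fin.cons ((fun _ : Fin 1 => y 0) 0) (Fin.tail y) : Fin (k + 1) → F) = y :=
  Fin.cons_self_tail y

variable (h2 : (2 : F) ≠ 0) (hψ : ψ ≠ 1)

/-- Homomorphisms into endomorphisms agreeing up to scalars agree on a normal subgroup. -/
theorem eq_of_smul_normal {G V : Type*} [Group G] [AddCommGroup V] [Module ℂ V] (f₁ f₂ : G →* Module.End ℂ V)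
    (h : ∀ g, ∃ c : ℂ, c ≠ 0 ∧ f₁ g = c • f₂ g) : (f₁.eqLocus f₂).Normal := by
  refine ⟨fun g (hg : f₁ g = f₂ g) x => ?_⟩
  obtain ⟨c, hc, e⟩ := h x
  change f₁ (x * g * x⁻¹) = f₂ (x * g * x⁻¹)
  have e1 : f₁ (x * g * x⁻¹) * f₁ x = f₁ x * f₁ g := by rw [← map_mul, inv_mul_cancel_right, map_mul]
  rw [e, hg, mul_smul_comm, smul_mul_assoc] at e1
  have e2 := congrArg (· * f₂ x⁻¹) (smul_right_injective _ hc e1)
  simp only [mul_assoc, ← map_mul, mul_inv_cancel, mul_one] at e2
  simpa only [mul_assoc, map_one, mul_one] using e2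

/-- The first factor acts on the columns. -/
theorem col_weil_emA (g : symplecticGroup (Fin 1) F) (f : (Fin (k + 1) → F) → ℂ) (x : Fin k → F) :
    col x (weil ψ h2 hψ (emA k g) f) = weil ψ h2 hψ g (col x f) := by
  let L : symplecticGroup (Fin 1) F →* Module.End ℂ ((Fin (k + 1) → F) → ℂ) :=
    { toFun := fun g =>
        { toFun := fun f y => weil ψ h2 hψ g (col (Fin.tail y) f) (fun _ => y 0)
          map_add' := fun f f' => funext fun y => by simp
          map_smul' := fun c f => funext fun y => by simp }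
      map_one' := LinearMap.ext fun f => funext fun y => by
        change weil ψ h2 hψ 1 (col (Fin.tail y) f) (fun _ => y 0) = f y
        rw [map_one, Module.End.one_apply]
        exact congrArg f (Fin.cons_self_tail y)
      map_mul' := fun g h => LinearMap.ext fun f => funext fun y => by
        change weil ψ h2 hψ (g * h) (col (Fin.tail y) f) (fun _ => y 0) =
          weil ψ h2 hψ g (col (Fin.tail y) fun y' => weil ψ h2 hψ h (col (Fin.tail y') f) (fun _ => y' 0)) (fun _ => y 0)
        rw [map_mul, Module.End.mul_apply]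
        refine congrFun (congrArg _ (funext fun t => ?_)) _
        simp only [col, LinearMap.funLeft_apply, Fin.tail_cons, Fin.cons_zero]
        exact congrArg _ (funext fun i => by rw [Subsingleton.elim i 0]) }
  have hcol : ∀ g f x, col x (L g f) = weil ψ h2 hψ g (col x f) := fun g f x => funext fun t => by
    change weil ψ h2 hψ g (col (Fin.tail (Fin.cons (t 0) x : Fin (k + 1) → F)) f) _ = _
    rw [Fin.tail_cons]
    exact congrArg _ (funext fun i => by rw [Subsingleton.elim i 0]; rfl)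
  have hext : ∀ f f' : (Fin (k + 1) → F) → ℂ, (∀ x, col x f = col x f') → f = f' := fun f f' h =>
    funext fun y => by
      have := congrFun (h (Fin.tail y)) fun _ => y 0
      simpa [col, LinearMap.funLeft_apply] using this
  have hc : ∀ g, ∃ c : ℂ, c ≠ 0 ∧ ((weil ψ h2 hψ).comp (emA k)) g = c • L g := fun g => by
    refine exists_weil_eq_smul ψ h2 hψ (fun e => ?_) fun w f => hext _ _ fun x => ?_
    · have := LinearMap.congr_fun (show L g⁻¹ * L g = 1 by rw [← map_mul, inv_mul_cancel, map_one]) (Pi.single 0 1)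
      rw [e, mul_zero] at this
      simpa using congrFun this 0
    · obtain ⟨u, v, rfl⟩ := exists_join w
      rw [hcol, emA_join, col_hop, col_hop, hcol, map_smul, weil_hop]
  have := eq_of_smul_normal ((weil ψ h2 hψ).comp (emA k)) L hc
  have htop := spT_eq_one_of_spS (le_refl 1) (N := ((weil ψ h2 hψ).comp (emA k)).eqLocus L) fun c => by
    refine LinearMap.ext fun f => funext fun y => ?_
    change weil ψ h2 hψ (emA k _) f y = weil ψ h2 hψ _ (col (Fin.tail y) f) (fun _ => y 0)
    rw [weil_spS, spS_single_eq_spT, spT_join_left]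
    have ej : join (Pi.single (Sum.inl ⟨0, le_refl 1⟩) 1 : Fin 1 ⊕ Fin 1 → F) (0 : Fin k ⊕ Fin k → F) =
        Pi.single (Sum.inl 0) 1 := by
      funext z; rcases z with i | i <;> cases i using Fin.cases <;> simp [join]
    rw [ej, ← spS_single_eq_spT 0 c (isSymm_single _ c), weil_spS]
    simp [col, LinearMap.funLeft_apply, dot_single]
  have e : ((weil ψ h2 hψ).comp (emA k)) g = L g :=
    (htop ▸ Subgroup.mem_top g : g ∈ ((weil ψ h2 hψ).comp (emA k)).eqLocus L)
  rw [MonoidHom.comp_apply] at e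
  rw [e, hcol]

/-- The second factor acts on the rows. -/
theorem row_weil_emB (hk : 1 ≤ k) (g : symplecticGroup (Fin k) F) (f : (Fin (k + 1) → F) → ℂ) (t : F) :
    row t (weil ψ h2 hψ (emB k g) f) = weil ψ h2 hψ g (row t f) := by
  let L : symplecticGroup (Fin k) F →* Module.End ℂ ((Fin (k + 1) → F) → ℂ) :=
    { toFun := fun g =>
        { toFun := fun f y => weil ψ h2 hψ g (row (y 0) f) (Fin.tail y)
          map_add' := fun f f' => funext fun y => by simp
          map_smul' := fun c f => funext fun y => by simp }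
      map_one' := LinearMap.ext fun f => funext fun y => by
        change weil ψ h2 hψ 1 (row (y 0) f) (Fin.tail y) = f y
        rw [map_one, Module.End.one_apply]
        exact congrArg f (Fin.cons_self_tail y)
      map_mul' := fun g h => LinearMap.ext fun f => funext fun y => by
        change weil ψ h2 hψ (g * h) (row (y 0) f) (Fin.tail y) =
          weil ψ h2 hψ g (row (y 0) fun y' => weil ψ h2 hψ h (row (y' 0) f) (Fin.tail y')) (Fin.tail y)
        rw [map_mul, Module.End.mul_apply]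
        refine congrFun (congrArg _ (funext fun x => ?_)) _
        simp [row, LinearMap.funLeft_apply] }
  have hrow : ∀ g f t, row t (L g f) = weil ψ h2 hψ g (row t f) := fun g f t => funext fun x => by
    change weil ψ h2 hψ g (row ((Fin.cons t x : Fin (k + 1) → F) 0) f) _ = _
    rw [Fin.tail_cons, Fin.cons_zero]
  have hext : ∀ f f' : (Fin (k + 1) → F) → ℂ, (∀ t, row t f = row t f') → f = f' := fun f f' h =>
    funext fun y => by
      have := congrFun (h (y 0)) (Fin.tail y)
      simpa [row, LinearMap.funLeft_apply] using this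
  have hc : ∀ g, ∃ c : ℂ, c ≠ 0 ∧ ((weil ψ h2 hψ).comp (emB k)) g = c • L g := fun g => by
    refine exists_weil_eq_smul ψ h2 hψ (fun e => ?_) fun w f => hext _ _ fun x => ?_
    · have := LinearMap.congr_fun (show L g⁻¹ * L g = 1 by rw [← map_mul, inv_mul_cancel, map_one]) (Pi.single 0 1)
      rw [e, mul_zero] at this
      simpa using congrFun this 0
    · obtain ⟨u, v, rfl⟩ := exists_join w
      rw [hrow, emB_join, row_hop, row_hop, hrow, map_smul, weil_hop]
  have := eq_of_smul_normal ((weil ψ h2 hψ).comp (emB k)) L hc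
  have htop := spT_eq_one_of_spS hk (N := ((weil ψ h2 hψ).comp (emB k)).eqLocus L) fun c => by
    refine LinearMap.ext fun f => funext fun y => ?_
    change weil ψ h2 hψ (emB k _) f y = weil ψ h2 hψ _ (row (y 0) f) (Fin.tail y)
    rw [weil_spS, spS_single_eq_spT, spT_join_right]
    have ej : join (0 : Fin 1 ⊕ Fin 1 → F) (Pi.single (Sum.inl ⟨0, hk⟩) 1 : Fin k ⊕ Fin k → F) =
        Pi.single (Sum.inl (Fin.succ ⟨0, hk⟩)) 1 := by
      funext z; rcases z with i | i <;> cases i using Fin.cases <;> simp [join, Pi.single_apply, Fin.ext_iff]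
    rw [ej, ← spS_single_eq_spT _ c (isSymm_single _ c), weil_spS, row, LinearMap.funLeft_apply, Fin.cons_self_tail]
    simp [Fin.tail, dot_single]
  have e : ((weil ψ h2 hψ).comp (emB k)) g = L g :=
    (htop ▸ Subgroup.mem_top g : g ∈ ((weil ψ h2 hψ).comp (emB k)).eqLocus L)
  rw [MonoidHom.comp_apply] at e
  rw [e, hrow]

/-- The Siegel radical acts diagonally. -/
theorem weil_spSHom (S : symA m F) (f : (Fin m → F) → ℂ) (x : Fin m → F) :
    weil ψ h2 hψ (spSHom (Multiplicative.ofAdd S)) f x = ψ (x ⬝ᵥ (S.1 *ᵥ x) / 2) * f x :=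
  weil_spS ψ h2 hψ S.1 S.2 f x

/-- The Heisenberg group acts slicewise by the operators. -/
theorem row_weil_qF (hk : 1 ≤ k) (w : Fin k ⊕ Fin k → F) (c : F) (f : (Fin (k + 1) → F) → ℂ) (t : F) :
    row t (weil ψ h2 hψ (qF w c) f) = ψ (c * (t * t) / 2) • (hop ψ (t • w) *ᵥ row t f) := by
  have hinl : ∀ (a : Fin k → F) c f, row t (weil ψ h2 hψ (qF (Sum.elim a (0 : Fin k → F)) c) f) =
      ψ (c * (t * t) / 2) • (hop ψ (t • Sum.elim a 0) *ᵥ row t f) := by
    intro a c f
    funext x
    rw [qF_inl, row, LinearMap.funLeft_apply]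
    have e1 : ((t • Sum.elim a 0 : Fin k ⊕ Fin k → F)) ∘ Sum.inl = t • a := rfl
    have e2 : ((t • Sum.elim a 0 : Fin k ⊕ Fin k → F)) ∘ Sum.inr = 0 := funext fun i => by simp
    rw [weil_spSHom, Pi.smul_apply, hop_mulVec, e1, e2, smul_eq_mul, ← mul_assoc, ← AddChar.map_add_eq_mul, sub_zero,
      LinearMap.funLeft_apply]
    congr 2
    simp only [AddSubgroup.coe_add, MinDegree.sq, sy, add_mulVec, smul_mulVec, vecMulVec_mulVec, dotProduct_add,
      dotProduct_smul, op_smul_eq_smul, smul_eq_mul, dotProduct_zero, zero_div, sub_zero, smul_dotProduct]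
    simp [dotProduct, Fin.sum_univ_succ, mul_comm]
    field_simp
    ring
  have hmul : ∀ w w' c c', (∀ f, row t (weil ψ h2 hψ (qF w c) f) = ψ (c * (t * t) / 2) • (hop ψ (t • w) *ᵥ row t f)) →
      (∀ f, row t (weil ψ h2 hψ (qF w' c') f) = ψ (c' * (t * t) / 2) • (hop ψ (t • w') *ᵥ row t f)) →
      ∀ f, row t (weil ψ h2 hψ (qF w c * qF w' c') f) =
        ψ ((c + c' + sympForm k F w' w) * (t * t) / 2) • (hop ψ (t • (w + w')) *ᵥ row t f) := by
    intro w w' c c' h h' f
    rw [map_mul, Module.End.mul_apply, h, h', mulVec_smul, mulVec_mulVec, hop_mul ψ h2, smul_mulVec, smul_smul,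
      smul_smul, ← AddChar.map_add_eq_mul, ← AddChar.map_add_eq_mul, sympForm_smul_left, sympForm_smul_right,
      sympForm_swap w' w, smul_add]
    congr 2
    ring
  set Jk := SymplecticGroup.symJ (Fin k) F
  have hinr : ∀ (b : Fin k → F) f, row t (weil ψ h2 hψ (qF (Sum.elim (0 : Fin k → F) b) 0) f) =
      ψ (0 * (t * t) / 2) • (hop ψ (t • Sum.elim (0 : Fin k → F) b) *ᵥ row t f) := by
    intro b f
    have e : Jk.1 *ᵥ (Sum.elim b (0 : Fin k → F)) = Sum.elim (0 : Fin k → F) b := by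
      change J (Fin k) F *ᵥ _ = _
      rw [J_mulVec]; funext z; rcases z with i | i <;> simp
    have eW : weil ψ h2 hψ Jk (weil ψ h2 hψ Jk⁻¹ (row t f)) = row t f := by
      rw [← Module.End.mul_apply, ← map_mul, mul_inv_cancel, map_one, Module.End.one_apply]
    rw [← e, ← qF_conj_emB, map_mul, map_mul, Module.End.mul_apply, Module.End.mul_apply, row_weil_emB ψ h2 hψ hk,
      hinl, map_smul, ← map_inv, row_weil_emB ψ h2 hψ hk, weil_hop, eW, mulVec_smul]
  obtain ⟨a, b, rfl⟩ : ∃ a b : Fin k → F, w = Sum.elim a (0 : Fin k → F) + Sum.elim (0 : Fin k → F) b := ⟨w ∘ Sum.inl, w ∘ Sum.inr, funext fun z => by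
    rcases z with i | i <;> simp⟩
  set s := sympForm k F (Sum.elim (0 : Fin k → F) b) (Sum.elim a (0 : Fin k → F))
  have := hmul _ _ (c - s) 0 (hinl a (c - s)) (hinr b) f
  rw [qF_mul] at this
  rw [show c - s + 0 + s = c by ring] at this
  exact this

/-- One delta function generates the representation of the first factor. -/
theorem span_weil_one : Submodule.span ℂ (Set.range fun g : symplecticGroup (Fin 1) F =>
    weil ψ h2 hψ g (Pi.single (fun _ => 1) 1)) = ⊤ := by
  set U := Submodule.span ℂ (Set.range fun g : symplecticGroup (Fin 1) F =>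
    weil ψ h2 hψ g (Pi.single (fun _ => 1) 1))
  have hmem : ∀ g, weil ψ h2 hψ g (Pi.single (fun _ => 1) 1) ∈ U := fun g => Submodule.subset_span ⟨g, rfl⟩
  have hne : ∀ x : Fin 1 → F, x ≠ 0 → (Pi.single x 1 : (Fin 1 → F) → ℂ) ∈ U := by
    intro x hx
    obtain ⟨A, hA⟩ := exists_gl_map_one hx (w := fun _ => (1 : F)) (fun e => one_ne_zero (congrFun e 0))
    obtain ⟨c, hc, e⟩ := weil_spD ψ h2 hψ A
    have h := hmem (spD A)
    rw [e, U.smul_mem_iff hc] at h
    convert h using 1
    funext y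
    have ht : (A : Matrix (Fin 1) (Fin 1) F)ᵀ = (A : Matrix (Fin 1) (Fin 1) F) := by
      ext i j; rw [transpose_apply, Subsingleton.elim i j]
    rw [ht, Pi.single_apply, Pi.single_apply, ← hA]
    exact if_congr ((mulVec_injective_of_isUnit A.isUnit).eq_iff).symm rfl rfl
  have h0 : (Pi.single 0 1 : (Fin 1 → F) → ℂ) ∈ U := by
    obtain ⟨c, hc, e⟩ := weil_symJ ψ h2 hψ (n := 1)
    have h := hmem (SymplecticGroup.symJ (Fin 1) F)
    rw [e, U.smul_mem_iff hc] at h
    set g : (Fin 1 → F) → ℂ := fun x => ∑ y, ψ (-(x ⬝ᵥ y)) * (Pi.single (fun _ => 1) 1 : (Fin 1 → F) → ℂ) y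
    have hg : g 0 = 1 := by simp [g, Pi.single_apply]
    have hsum := Finset.univ_sum_single g
    rw [← Finset.add_sum_erase _ _ (Finset.mem_univ (0 : Fin 1 → F)), hg] at hsum
    rw [← eq_sub_iff_add_eq] at hsum
    rw [hsum]
    refine U.sub_mem h (U.sum_mem fun y hy => ?_)
    have := U.smul_mem (g y) (hne y (Finset.ne_of_mem_erase hy))
    rwa [← Pi.single_smul', smul_eq_mul, mul_one] at this
  rw [eq_top_iff]
  intro f _
  rw [← Finset.univ_sum_single f]
  refine U.sum_mem fun y _ => ?_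
  have hy : (Pi.single y 1 : (Fin 1 → F) → ℂ) ∈ U := by
    by_cases hy : y = 0
    · exact hy ▸ h0
    · exact hne y hy
  have := U.smul_mem (f y) hy
  rwa [← Pi.single_smul', smul_eq_mul, mul_one] at this

end CfsgLib.Weil
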