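import Mathlib
import Cfsg.Agent.Lib.Weil.Blocks

/-!
The two halves of the Weil representation and their irreducibility.
-/

namespace CfsgLib.Weil

open Matrix CfsgLib.Classical CfsgLib.MinDegree

variable {F : Type*} [Field F] [Fintype F] [DecidableEq F] {n : ℕ} (ψ : AddChar F ℂ)

/-- The functions of a given parity. -/
def halfSub (n : ℕ) (F : Type*) [Field F] (ε : ℂ) : Submodule ℂ ((Fin n → F) → ℂ) where
  carrier := {f | ∀ x, f (-x) = ε * f x}
  zero_mem' := fun x => by simp
  add_mem' := fun {f f'} hf hf' x => by simp [hf x, hf' x, mul_add]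
  smul_mem' := fun c f hf x => by simp [hf x, mul_left_comm]

omit [Fintype F] [DecidableEq F] in
theorem mem_halfSub {ε : ℂ} {f : (Fin n → F) → ℂ} : f ∈ halfSub n F ε ↔ ∀ x, f (-x) = ε * f x := Iff.rfl

theorem parity_half {ε : ℂ} {f : (Fin n → F) → ℂ} (hf : f ∈ halfSub n F ε) : parity n F *ᵥ f = ε • f :=
  funext fun x => by rw [parity_mulVec, hf x]; rfl

variable (h2 : (2 : F) ≠ 0) (hψ : ψ ≠ 1)

/-- The parity halves are stable. -/
noncomputable def halfInv (ε : ℂ) : Subrepresentation (weil ψ (n := n) h2 hψ) where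
  toSubmodule := halfSub n F ε
  apply_mem_toSubmodule g f hf x := by
    rw [← parity_mulVec (weil ψ h2 hψ g f) x, ← weil_parity ψ h2 hψ, parity_half hf, map_smul]
    rfl

/-- A half of the Weil representation. -/
noncomputable def half (ε : ℂ) : Representation ℂ (symplecticGroup (Fin n) F) (halfSub n F ε) :=
  (halfInv ψ h2 hψ ε).toRepresentation

theorem half_val (ε : ℂ) (g : symplecticGroup (Fin n) F) (f : halfSub n F ε) :
    ((half ψ h2 hψ ε g f : halfSub n F ε) : (Fin n → F) → ℂ) = weil ψ h2 hψ g f.1 := rfl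

omit [DecidableEq F] in
theorem isCompl_halves (n : ℕ) : IsCompl (halfSub n F 1) (halfSub n F (-1)) := by
  refine ⟨disjoint_iff.2 ((Submodule.eq_bot_iff _).2 fun f hf => funext fun x => ?_), codisjoint_iff.2 (eq_top_iff.2 ?_)⟩
  · have h1 := hf.1 x
    have h3 := hf.2 x
    simp only [Pi.zero_apply]
    linear_combination (h3 - h1) / 2
  · intro f _
    refine Submodule.mem_sup.2 ⟨fun x => (f x + f (-x)) / 2, fun x => ?_, fun x => (f x - f (-x)) / 2, fun x => ?_, ?_⟩
    · simp only [neg_neg]; ring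
    · simp only [neg_neg]; ring
    · funext x
      simp only [Pi.add_apply]
      ring

include h2 in
theorem finrank_half_neg : 2 * Module.finrank ℂ (halfSub n F (-1)) + 1 = Fintype.card F ^ n := by
  rw [show halfSub n F (-1) = oddSub n F from Submodule.ext fun f => by
    refine forall_congr' fun x => ?_
    rw [neg_one_mul]]
  exact finrank_oddSub h2

include h2 in
theorem finrank_half_one : 2 * Module.finrank ℂ (halfSub n F (1 : ℂ)) = Fintype.card F ^ n + 1 := by
  have h := Submodule.finrank_add_eq_of_isCompl (isCompl_halves (F := F) n)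
  rw [Module.finrank_fintype_fun_eq_card, Fintype.card_fun, Fintype.card_fin] at h
  have := finrank_half_neg (F := F) (n := n) h2
  omega

include h2 in
omit hψ ψ [Fintype F] [DecidableEq F] in
theorem neg_ne_self {x : Fin n → F} (hx : x ≠ 0) : -x ≠ x := fun h => hx (funext fun i => by
  have := congrFun h i
  simp only [Pi.neg_apply] at this
  exact (mul_eq_zero.1 (show (2 : F) * x i = 0 by linear_combination -this)).resolve_left h2)

/-- The symmetrised delta function. -/
def sdelta (ε : ℂ) (x : Fin n → F) : (Fin n → F) → ℂ := Pi.single x 1 + ε • Pi.single (-x) 1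

omit [Fintype F] in
theorem sdelta_mem {ε : ℂ} (hε : ε * ε = 1) (x : Fin n → F) : sdelta ε x ∈ halfSub n F ε := fun y => by
  simp only [sdelta, Pi.add_apply, Pi.smul_apply, Pi.single_apply, smul_eq_mul, neg_inj, neg_eq_iff_eq_neg]
  by_cases h1 : y = x <;> by_cases h3 : y = -x <;> simp [h1, h3, hε, mul_add] <;> simp_all <;> ring_nf

omit [Fintype F] in
include h2 in
omit hψ ψ in
theorem sdelta_self {ε : ℂ} {x : Fin n → F} (hx : x ≠ 0) : sdelta ε x x = 1 := by
  simp [sdelta, (neg_ne_self h2 hx).symm]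

omit h2 hψ in
/-- The weight of a point. -/
noncomputable def ptChar (x : Fin n → F) : AddChar (symA n F) ℂ :=
  ψ.compAddMonoidHom
    { toFun := fun S => x ⬝ᵥ (S.1 *ᵥ x) / 2
      map_zero' := by simp
      map_add' := fun S T => by simp [add_mulVec, dotProduct_add, add_div] }

omit [DecidableEq F] h2 hψ in
theorem ptChar_apply (x : Fin n → F) (S : symA n F) : ptChar ψ x S = ψ (x ⬝ᵥ (S.1 *ᵥ x) / 2) := rfl

include h2 hψ in
omit [DecidableEq F] in
theorem ptChar_eq {x y : Fin n → F} (h : ptChar ψ x = ptChar ψ y) : x = y ∨ x = -y := by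
  have hk : ∀ v w : Fin n → F, (v ⬝ᵥ x) * (w ⬝ᵥ x) = (v ⬝ᵥ y) * (w ⬝ᵥ y) := by
    intro v w
    refine cancel_shift hψ fun c => ?_
    have e : ∀ z : Fin n → F, ptChar ψ z (sy v w c) = ψ (c * ((v ⬝ᵥ z) * (w ⬝ᵥ z))) := by
      intro z
      rw [ptChar_apply]
      congr 1
      simp only [sy, smul_mulVec, add_mulVec, vecMulVec_mulVec, op_smul_eq_smul, dotProduct_smul, dotProduct_add,
        smul_eq_mul, dotProduct_comm z v, dotProduct_comm z w]
      field_simp
      ring
    rw [← e, ← e, h]
  by_cases hy : y = 0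
  · refine Or.inl (funext fun i => ?_)
    have := hk (Pi.single i 1) (Pi.single i 1)
    rw [hy] at this ⊢
    simpa [mul_self_eq_zero] using this
  · obtain ⟨i, hi⟩ := Function.ne_iff.1 hy
    have e : ∀ j, x j * x i = y j * y i := fun j => by simpa using hk (Pi.single j 1) (Pi.single i 1)
    rcases mul_self_eq_mul_self_iff.1 (e i) with hxi | hxi
    · exact Or.inl (funext fun j => mul_right_cancel₀ hi (by have := e j; rwa [hxi] at this))
    · refine Or.inr (funext fun j => mul_right_cancel₀ hi ?_)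
      have := e j
      rw [hxi] at this
      rw [Pi.neg_apply]
      linear_combination -this

/-- Projecting to a weight picks the values at a pair of points. -/
theorem weightProj_weil [Fintype (symA n F)] {ε : ℂ} {f : (Fin n → F) → ℂ} (hf : f ∈ halfSub n F ε) {x : Fin n → F}
    (hx : x ≠ 0) :
    weightProj ((weil ψ h2 hψ).comp spSHom) (ptChar ψ x) f =
      ((Fintype.card (symA n F) : ℂ) * f x) • sdelta ε x := by
  funext y
  have hsum : ∑ S, ptChar ψ x (-S) * ptChar ψ y S =
      if y = x ∨ y = -x then (Fintype.card (symA n F) : ℂ) else 0 := by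
    split_ifs with h
    · have e : ptChar ψ y = ptChar ψ x := DFunLike.ext _ _ fun S => by
        rcases h with rfl | rfl
        · rfl
        · simp [ptChar_apply, mulVec_neg]
      simp [e, ← AddChar.map_add_eq_mul]
    · have hne : (ptChar ψ x)⁻¹ * ptChar ψ y ≠ 1 := fun e => h (by
        rw [inv_mul_eq_one] at e
        exact ptChar_eq ψ h2 hψ e.symm)
      simpa [AddChar.mul_apply, AddChar.inv_apply] using AddChar.sum_eq_zero_of_ne_one hne
  rw [weightProj_apply, Finset.sum_apply]
  simp only [MonoidHom.comp_apply, Pi.smul_apply, smul_eq_mul, weil_spSHom, ← ptChar_apply ψ y, ← mul_assoc]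
  rw [← Finset.sum_mul, hsum]
  have hxn : x ≠ -x := (neg_ne_self h2 hx).symm
  by_cases h1 : y = x
  · subst h1
    simp [sdelta, hxn]
  · by_cases h3 : y = -x
    · subst h3
      rw [if_pos (Or.inr rfl), hf x]
      simp [sdelta, h1]
      ring
    · simp [sdelta, h1, h3]

include h2 hψ in
/-- A half has no proper invariant subspace. -/
theorem half_minimal (hn : 1 ≤ n) {ε : ℂ} (hε : ε * ε = 1) {N : Submodule ℂ ((Fin n → F) → ℂ)}
    (hN : ∀ g, ∀ f ∈ N, weil ψ h2 hψ g f ∈ N) (hle : N ≤ halfSub n F ε) (hne : N ≠ ⊥) : halfSub n F ε ≤ N := by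
  classical
  haveI : Fintype (symA n F) := Fintype.ofFinite _
  obtain ⟨f, hf, hf0⟩ := Submodule.exists_mem_ne_zero_of_ne_bot hne
  obtain ⟨x, hx, hxN⟩ : ∃ x : Fin n → F, x ≠ 0 ∧ sdelta ε x ∈ N := by
    have key : ∀ f ∈ N, ∀ x : Fin n → F, x ≠ 0 → f x ≠ 0 → sdelta ε x ∈ N := by
      intro f hf x hx hfx
      have h : weightProj ((weil ψ h2 hψ).comp spSHom) (ptChar ψ x) f ∈ N := by
        rw [weightProj_apply]
        exact N.sum_mem fun S _ => N.smul_mem _ (hN _ f hf)
      rw [weightProj_weil ψ h2 hψ (hle hf) hx] at h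
      exact (N.smul_mem_iff (mul_ne_zero (Nat.cast_ne_zero.2 Fintype.card_ne_zero) hfx)).1 h
    by_cases h : ∃ x, x ≠ 0 ∧ f x ≠ 0
    · obtain ⟨x, hx, hfx⟩ := h
      exact ⟨x, hx, key f hf x hx hfx⟩
    · push Not at h
      have h0 : f 0 ≠ 0 := fun e => hf0 (funext fun y => by
        by_cases hy : y = 0
        · exact hy ▸ e
        · exact h y hy)
      obtain ⟨c, hc, e⟩ := weil_symJ ψ h2 hψ (n := n)
      have hx : (fun _ => 1 : Fin n → F) ≠ 0 := fun e => one_ne_zero (congrFun e ⟨0, hn⟩)
      refine ⟨_, hx, key _ (hN (SymplecticGroup.symJ (Fin n) F) f hf) _ hx ?_⟩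
      rw [e, Pi.smul_apply, Finset.sum_eq_single 0 (fun y _ hy => by rw [h y hy, mul_zero]) (by simp)]
      simp [hc, h0]
  have hall : ∀ y : Fin n → F, y ≠ 0 → sdelta ε y ∈ N := by
    intro y hy
    obtain ⟨A, hA⟩ := exists_gl_map_one hy hx
    set A' : GL (Fin n) F := ⟨(A : Matrix (Fin n) (Fin n) F)ᵀ, ((A⁻¹ : GL (Fin n) F) : Matrix (Fin n) (Fin n) F)ᵀ,
      by rw [← transpose_mul, ← Units.val_mul, inv_mul_cancel, Units.val_one, transpose_one],
      by rw [← transpose_mul, ← Units.val_mul, mul_inv_cancel, Units.val_one, transpose_one]⟩ with hA'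
    obtain ⟨c, hc, e⟩ := weil_spD ψ h2 hψ A'
    have h := hN (spD A') _ hxN
    rw [e, N.smul_mem_iff hc] at h
    convert h using 1
    funext z
    have hinj := (mulVec_injective_of_isUnit A.isUnit)
    simp only [sdelta, hA', transpose_transpose, Pi.add_apply, Pi.smul_apply, Pi.single_apply, ← hA,
      ← mulVec_neg, hinj.eq_iff]
  have hzero : ∀ h ∈ halfSub n F ε, h 0 = 0 → h ∈ N := by
    intro h hh h0
    have e : h = (2⁻¹ : ℂ) • ∑ y, h y • sdelta ε y := by
      funext z
      simp only [Pi.smul_apply, Finset.sum_apply, sdelta, Pi.add_apply, Pi.single_apply, smul_eq_mul]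
      rw [Finset.sum_congr rfl fun y _ => show h y * ((if z = y then (1 : ℂ) else 0) +
          ε * if z = -y then 1 else 0) = (if z = y then h y else 0) + (if -z = y then ε * h y else 0) by
        rw [if_congr (show z = -y ↔ -z = y from neg_eq_iff_eq_neg.symm) rfl rfl]
        split_ifs <;> ring]
      rw [Finset.sum_add_distrib, Finset.sum_ite_eq, Finset.sum_ite_eq, if_pos (Finset.mem_univ _),
        if_pos (Finset.mem_univ _), hh z, ← mul_assoc ε, hε]
      ring
    rw [e]
    refine N.smul_mem _ (N.sum_mem fun y _ => ?_)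
    by_cases hy : y = 0
    · rw [hy, h0, zero_smul]; exact N.zero_mem
    · exact N.smul_mem _ (hall y hy)
  intro h hh
  by_cases h0 : h 0 = 0
  · exact hzero h hh h0
  · have hε1 : ε = 1 := by
      have := hh 0
      rw [neg_zero] at this
      exact mul_right_cancel₀ h0 (by rw [← this, one_mul])
    obtain ⟨c, hc, e⟩ := weil_symJ ψ h2 hψ (n := n)
    set D := weil ψ h2 hψ (SymplecticGroup.symJ (Fin n) F) (sdelta ε x) with hD
    have hDN : D ∈ N := hN _ _ hxN
    have hD0 : D 0 ≠ 0 := by
      rw [hD, e, Pi.smul_apply]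
      simp [sdelta, hε1, Finset.sum_add_distrib, mul_add, hc]
    have := N.add_mem (hzero (h - (h 0 / D 0) • D)
      ((halfSub n F ε).sub_mem hh ((halfSub n F ε).smul_mem _ (hle hDN))) (by simp [div_mul_cancel₀ _ hD0]))
      (N.smul_mem (h 0 / D 0) hDN)
    rwa [sub_add_cancel] at this

include h2 hψ in
/-- The halves are irreducible. -/
theorem half_irreducible (hn : 1 ≤ n) {ε : ℂ} (hε : ε * ε = 1) : (half ψ (n := n) h2 hψ ε).IsIrreducible := by
  have hne : sdelta ε (fun _ : Fin n => (1 : F)) ≠ 0 := fun e => by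
    have h : (fun _ : Fin n => (1 : F)) ≠ 0 := fun e => one_ne_zero (congrFun e ⟨0, hn⟩)
    have := congrFun e fun _ => 1
    rw [sdelta_self h2 h] at this
    exact one_ne_zero this
  haveI : Nontrivial (Subrepresentation (half ψ (n := n) h2 hψ ε)) := ⟨⊥, ⊤, fun h => hne (by
    have h' : (⊥ : Submodule ℂ (halfSub n F ε)) = ⊤ := congrArg Subrepresentation.toSubmodule h
    have hm : (⟨_, sdelta_mem hε fun _ => 1⟩ : halfSub n F ε) ∈ (⊥ : Submodule ℂ (halfSub n F ε)) := by
      rw [h']; exact Submodule.mem_top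
    exact congrArg Subtype.val ((Submodule.mem_bot ℂ).1 hm))⟩
  refine IsSimpleOrder.mk fun S => ?_
  by_cases hb : S.toSubmodule = ⊥
  · exact Or.inl (Subrepresentation.toSubmodule_injective hb)
  refine Or.inr (Subrepresentation.toSubmodule_injective ?_)
  change S.toSubmodule = ⊤
  have := half_minimal ψ h2 hψ hn hε (N := S.toSubmodule.map (halfSub n F ε).subtype) (fun g f hf => by
      obtain ⟨f', hf', rfl⟩ := Submodule.mem_map.1 hf
      exact Submodule.mem_map.2 ⟨half ψ h2 hψ ε g f', S.apply_mem_toSubmodule g hf', rfl⟩)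
    (Submodule.map_subtype_le _ _) (fun e => hb (Submodule.map_injective_of_injective Subtype.val_injective
      (e.trans (Submodule.map_bot _).symm)))
  exact eq_top_iff.2 fun f _ => by
    obtain ⟨f', hf', e⟩ := Submodule.mem_map.1 (this f.2)
    exact Subtype.ext e ▸ hf'

end CfsgLib.Weil
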